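import Cfsg.Agent.Lib.M24Data.Tree

/-!
# Classes of elements of order 2 and 3 in the group of the code

Every element of order 3 has 0 or 6 fixed points, every involution has 0 or 8; each of the four
types forms one class under conjugation, with explicit representatives `x3A, x3B, t2A, t2B`.
-/

set_option autoImplicit false

namespace Cfsg.Agent.Lib.M24Data.Classes

open Cfsg Cfsg.Agent.Lib.Golay.Core Cfsg.Agent.Lib.Golay.Perm Cfsg.Agent.Lib.Golay.Chain
  Cfsg.Agent.Lib.Golay.M24 Cfsg.Agent.Lib.Golay.Basic Cfsg.Agent.Lib.Golay.Stab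
  Cfsg.Agent.Lib.M24Data.OctadPairs Cfsg.Agent.Lib.M24Data.Tree
open scoped Pointwise

/-- Representative of the elements of order 3 with six fixed points. -/
def x3A : ℕ := 983141956895601025126892051911247904
/-- Representative of the fixed-point-free elements of order 3. -/
def x3B : ℕ := 27430218808318643410976476762803937
/-- Representative of the involutions with eight fixed points. -/
def t2A : ℕ := 965128854020860192151391391390468128
/-- Representative of the fixed-point-free involutions. -/
def t2B : ℕ := 23998713586146347121374253096797271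

/-- Conjugators for the elements of order 3 fixing the five base points. -/
def W3A : List ℕ := [14833503411344021253937679535506935, 5701516846540486400520777921267191, 7358848686968381008241330243044855, 15747095751245460166950012386870775, 24023697931981761894035062120318455, 25241723228608296238163777855489527, 4198678704078393824379787736581623, 28900073711126109127796640985449975, 18972339305616969803120178121213431, 22316280267117574963599502308607479, 21503677857929651521919536086451703, 27476628368211974132947341766886903, 9231871778094445393166266874791415, 17328177909040692613006299332937207, 11301594870178247206587735031743991, 8494021142506367580645080139105783, 14575629050193089270554382018119159, 13684813605077197352701794671756791, 12471868790986612212830883461301751, 5858274411916594462788397193856503, 25039441034832614598898446887912951, 22481880440536700748647924445054455, 9554928011470173477161921895564791, 10976837081033667486384506079905271, 20934282075214967379077630885201399, 24183347319433829164436156773926391, 8016955879606185513745618068145655,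 6757135245668068011904266859021815, 3144453593197711064492163660350967, 16961569086994724619970348825282039, 26700015038182744500401340408759799, 18509186013671637770450547557631479]
/-- Conjugators for the involutions fixing the five base points. -/
def W2A : List ℕ := [19844225924927299751502979187283511, 19893621009473429332355581560854071, 13841649530531574666641535047636535, 27754558779566115350772363923887671, 5810140920334444459661780759713335, 27599661627920241937057598373140023, 13151464031447932837922757612246583, 12317273342773342394868876551063095, 27888798598676554378051163049629239, 19765651481119021399110083281356343, 12551191897712339097808885281920567, 21640828994259801469844711239882295, 11047857320329370648839277747672631, 16003205073377181889201385698825783, 9472376838567649099076839577945655]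
/-- Conjugators for the normal forms of fixed-point-free elements of order 3. -/
def W3B : List ℕ := [2737384597522910967965107381379809, 17045666065819238962461648140454625, 3046701180297421790634166232295137, 8089525173893864959579516500527841, 4140629162914426338673160985257697, 20244947883742520687789902027858657, 23865054635596528240012006788441825, 7081857165387574243770434277909217, 29231050291169091397306434061421281, 9274822063118611642916437351474913, 9994530783117877508254653957579489, 26348263036789908340746071837854433, 15829567332009704735943678540423905, 22660938557679164989913692730641121, 26822432713991437564743168451421921, 28076542736988184423979955961210593, 8303554192473240054269105796588257, 18874671701888151390561169123134177, 13438858780059466066401139448390369, 13593698743237035500731877080255201, 7121190167847662260539019951875809, 5503518202787032467854464325527265, 28849373935004730150205912537146081, 12511933488601035778998610307402465, 25275897845202271102331028425450209, 9335869574883251757019850451536609, 7924816264970219196938852738803425,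 21688493316791729626514056362937057, 16323681136203795878945472343451361, 18392952448622232835076679567712993, 21477976950901601232393747832252129, 5572200430526420211313852018107105, 6631442259764688327298194788666081, 25543329674985902505045541069605601, 13531343966790946896029420360050401, 23899163669309817958486997333484257, 14367968611733817993173365509334753, 4000156469142724758028530604352225, 5729272401445770753318333271067361, 14689797195235268524529787939103457, 19883663415263813585008532514753249, 19695059795899068561553742899717857, 4110532104898070891053637012900577, 22722917533893474238444780025816801, 11857884318553126852698979552502497, 17295913424581704136454867892053729, 17622967363339971395918831224922849, 28051112700302124803848407512861409]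
/-- Conjugators for the normal forms of fixed-point-free involutions. -/
def W2B : List ℕ := [20147329543649582369170794351315671, 21065077594952867614906292664683223, 9710364594638461114786488880089815, 10567733383404374737663935966235351, 14856243826524183543041750168390359, 22613899042614993250646403358280407, 3468574537291340198143381175159511, 4268791309686533976871739168803543, 13487184696819443666131059901876951, 4598333278808397270835701377288919, 13327339595587715631753549676432087, 3052682344505437094749338589612759, 9740038156514325256313424083307223, 19768077756478660762113818158058199, 21380647124953306772687705619450583, 20263523789282224964103368863271639, 21550470017915671703974694370298583, 9871295745523098526189998302710487, 27360470669757363582796341970619095, 11825423670583534776892721641179863, 15992176190430554830320847517534935, 5541199167098310205403657345321687, 18643941738998720753195684081584855, 17589299739737626013072934823414487, 10874480217266007350404728307206871, 15135015363124121383369835051371223, 22445188901122675330760985006459607,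 13879993110099774953001310570789431, 4165043703819971921178305849936599, 20000044770286055883783699204360919, 13233811060781215538176048074607319, 11786746666391613012587531480709687, 14605130480368884785184596122159831, 15916208915356445706043909047208663, 27727701674068515447377869235964631, 12382910203610260205935908698606295, 17002146039037158877018507864328919, 5615780264770733758254521278679767, 18270785571263167238843146891315927, 5330868821527326059731775412194007, 20286470560972611938961399955700279, 2784381402435621585278837366213335, 25054291544719577623926557544762071, 25056665780085967420311099666709047, 12098577878639238235277616823683799, 17258243454807956359312169349302999, 5696230307807525361596957793602263, 19030291651493566581830158694107863, 12213392677227956633719860503399127, 15743335577129531246066584077880023, 27840629201868989620979626322578135, 4437112838281026305476504314333911, 13170077864406791064461271615818455, 3176146920611623115491788398938839, 22215661002613938470675146628287191, 10801787195607555104712921420810967,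 14375570245460330517703141242850007, 25288733411747849263839412733233879, 25318019195151472629949815428106967, 24965954194412790508941467001178839, 20286437291869927936209304489052887, 7961205260734235141100736800574167, 3382910393495904071658727686912567, 7919073054001074531233085516003895, 8170190778300957635980354225982167, 15102996456263707830697082853214935]

/-- Normal form `23 ↦ 0 ↦ 1 ↦ 23`, `2 ↦ 3`. -/
def P3B : ℕ := 13576749974845829295980078028099297
/-- Normal form `23, 0, 1` fixed, `2 ↦ 3`. -/
def P3f : ℕ := 980296294882146363485576092429487136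
/-- Normal form `23 ↔ 0`, `1 ↔ 2`. -/
def P2B : ℕ := 7391049534354063934088115031245911
/-- Normal form `23, 0` fixed, `1 ↔ 2`. -/
def P2f : ℕ := 982206352711483037717787982528447552

/-! ## Boolean tests -/

/-- The test that the cube is the identity. -/
def cube (Q : ℕ) : Bool := allUpTo (fun i => Nat.beq (img Q (img Q (img Q i))) i) 24

/-- The test that the square is the identity. -/
def square (Q : ℕ) : Bool := allUpTo (fun i => Nat.beq (img Q (img Q i)) i) 24

/-- The number of fixed points. -/
def fixC (Q : ℕ) : ℕ := countUpTo (fun i => Nat.beq (img Q i) i) 24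

/-- The test that `Q` is conjugate to `x` by a member of `W`. -/
def conjTo (x : ℕ) (W : List ℕ) (Q : ℕ) : Bool :=
  anyL (fun ρ => Nat.beq (comp ρ Q) (comp x ρ)) W

theorem cube_of_pow {Q : ℕ} (hQ : validPerm Q = true) (h : g Q ^ 3 = 1) : cube Q = true := by
  apply allUpTo_iff.mpr
  intro i hi
  have h1 := congrArg (fun f : Equiv.Perm GolayPt => f (pt i)) h
  simp only [pow_succ, pow_zero, one_mul, Equiv.Perm.mul_apply, Equiv.Perm.one_apply] at h1
  rw [g_pt hQ hi, g_pt hQ (valid_img_lt hQ hi), g_pt hQ (valid_img_lt hQ (valid_img_lt hQ hi))] at h1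
  have h2 := pt_injOn (valid_img_lt hQ (valid_img_lt hQ (valid_img_lt hQ hi))) hi h1
  rw [h2]
  exact Nat.beq_refl _

theorem square_of_pow {Q : ℕ} (hQ : validPerm Q = true) (h : g Q ^ 2 = 1) : square Q = true := by
  apply allUpTo_iff.mpr
  intro i hi
  have h1 := congrArg (fun f : Equiv.Perm GolayPt => f (pt i)) h
  simp only [pow_succ, pow_zero, one_mul, Equiv.Perm.mul_apply, Equiv.Perm.one_apply] at h1
  rw [g_pt hQ hi, g_pt hQ (valid_img_lt hQ hi)] at h1
  have h2 := pt_injOn (valid_img_lt hQ (valid_img_lt hQ hi)) hi h1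
  rw [h2]
  exact Nat.beq_refl _

/-- The fixed points counted. -/
theorem fixC_eq {Q : ℕ} (hQ : validPerm Q = true) :
    fixC Q = (Finset.univ.filter fun p => g Q p = p).card := by
  unfold fixC
  rw [countUpTo_eq]
  symm
  apply Finset.card_bij (fun p _ => idx p)
  · intro p hp
    simp only [Finset.mem_filter, Finset.mem_univ, true_and] at hp
    simp only [Finset.mem_filter, Finset.mem_range]
    refine ⟨idx_lt p, ?_⟩
    rw [← idx_g hQ, hp]
    exact Nat.beq_refl _
  · intro a _ b _ h
    exact idx_injective h
  · intro i hi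
    simp only [Finset.mem_filter, Finset.mem_range] at hi
    refine ⟨pt i, ?_, idx_pt hi.1⟩
    simp only [Finset.mem_filter, Finset.mem_univ, true_and]
    rw [g_pt hQ hi.1, Nat.eq_of_beq_eq_true hi.2]

theorem conj_of_conjTo {x : ℕ} {W : List ℕ} (hx : validPerm x = true)
    (hW : ∀ ρ ∈ W, checkAut ρ = true) {Q : ℕ} (hQ : validPerm Q = true)
    (h : conjTo x W Q = true) : ∃ τ ∈ M24, τ * g Q * τ⁻¹ = g x := by
  obtain ⟨ρ, hρ, he⟩ := anyL_iff.mp h
  have h1 := checkAut_valid (hW ρ hρ)
  refine ⟨g ρ, g_mem_M24 (hW ρ hρ), ?_⟩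
  have h2 := Nat.eq_of_beq_eq_true he
  have h3 := congrArg g h2
  rw [g_comp h1 hQ, g_comp hx h1] at h3
  rw [h3]
  group

/-! ## Normal forms -/

/-- Five distinct points can be carried to the first five base points. -/
theorem exists_tau5 {a b c d e : GolayPt} (h1 : a ≠ b) (h2 : a ≠ c) (h3 : a ≠ d) (h4 : a ≠ e)
    (h5 : b ≠ c) (h6 : b ≠ d) (h7 : b ≠ e) (h8 : c ≠ d) (h9 : c ≠ e) (h10 : d ≠ e) :
    ∃ τ ∈ M24, τ a = pt 23 ∧ τ b = pt 0 ∧ τ c = pt 1 ∧ τ d = pt 2 ∧ τ e = pt 3 := by
  have hne : ∀ i j : Fin 5, (![a, b, c, d, e] : Fin 5 → GolayPt) i = ![a, b, c, d, e] j → i = j := by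
    intro i j hij
    fin_cases i <;> fin_cases j <;> first | rfl | (exfalso; simp_all)
  obtain ⟨σ, hσ, H⟩ := exists_map_five ⟨![a, b, c, d, e], fun i j hij => hne i j hij⟩
  have hinv : ∀ i : Fin 5, σ⁻¹ ((![a, b, c, d, e] : Fin 5 → GolayPt) i) = pt (baseF i) := by
    intro i
    rw [Equiv.Perm.inv_eq_iff_eq]
    exact (H i).symm
  exact ⟨σ⁻¹, M24.inv_mem hσ, hinv 0, hinv 1, hinv 2, hinv 3, hinv 4⟩

/-- Levels below four base points. -/
def lv4 : List (ℕ × List ℕ) := [(3, T4), (5, T5), (4, T6)]
/-- Levels below five base points. -/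
def lv5 : List (ℕ × List ℕ) := [(5, T5), (4, T6)]

/-- The walk without pruning, below four base points. -/
theorem tree4 {leaf : ℕ → Bool} {P0 : ℕ} (hP0 : Good P0)
    (hrun : treeAux leaf (fun _ _ => false) lv4 [2, 1, 0, 23] P0 = true)
    {σ : Equiv.Perm GolayPt} (hσ : σ ∈ M24)
    (h23 : σ (pt 23) = pt (img P0 23)) (h0 : σ (pt 0) = pt (img P0 0))
    (h1 : σ (pt 1) = pt (img P0 1)) (h2 : σ (pt 2) = pt (img P0 2)) :
    ∃ Q, Good Q ∧ leaf Q = true ∧ σ = g Q := by
  refine treeAux_sound (Φ := fun _ => True) (fun _ _ _ _ _ _ => rfl) lv4 _ levels4 P0 hP0 hrun σ hσ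
    trivial ?_ (by decide)
  intro x hx
  simp only [List.mem_cons, List.not_mem_nil, or_false] at hx
  rcases hx with rfl | rfl | rfl | rfl
  · exact h2
  · exact h1
  · exact h0
  · exact h23

/-- The walk without pruning, below five base points. -/
theorem tree5 {leaf : ℕ → Bool} (hrun : treeAux leaf (fun _ _ => false) lv5 [3, 2, 1, 0, 23] idP = true)
    {σ : Equiv.Perm GolayPt} (hσ : σ ∈ M24)
    (h23 : σ (pt 23) = pt 23) (h0 : σ (pt 0) = pt 0)
    (h1 : σ (pt 1) = pt 1) (h2 : σ (pt 2) = pt 2) (h3 : σ (pt 3) = pt 3) :
    ∃ Q, Good Q ∧ leaf Q = true ∧ σ = g Q := by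
  refine treeAux_sound (Φ := fun _ => True) (fun _ _ _ _ _ _ => rfl) lv5 _ levels5 idP good_idP hrun σ hσ
    trivial ?_ (by decide)
  have himg : ∀ i < 24, img idP i = i := by decide +kernel
  intro x hx
  simp only [List.mem_cons, List.not_mem_nil, or_false] at hx
  rcases hx with rfl | rfl | rfl | rfl | rfl
  · rw [h3, himg _ (by norm_num)]
  · rw [h2, himg _ (by norm_num)]
  · rw [h1, himg _ (by norm_num)]
  · rw [h0, himg _ (by norm_num)]
  · rw [h23, himg _ (by norm_num)]

/-! ## Checks -/

/-- Leaf test below five base points. -/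
def leaf5 (Q : ℕ) : Bool :=
  Nat.beq (fixC Q) 24 || (!(cube Q) || (Nat.beq (fixC Q) 6 && conjTo x3A W3A Q)) &&
    (!(square Q) || (Nat.beq (fixC Q) 8 && conjTo t2A W2A Q))

/-- Leaf test for normal forms of fixed-point-free elements of order 3. -/
def leaf3B (Q : ℕ) : Bool := !(cube Q && Nat.beq (fixC Q) 0) || conjTo x3B W3B Q

/-- Leaf test for normal forms of fixed-point-free involutions. -/
def leaf2B (Q : ℕ) : Bool := !(square Q && Nat.beq (fixC Q) 0) || conjTo t2B W2B Q

/-- Leaf test: no element of order 3 with three fixed points. -/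
def leaf3f (Q : ℕ) : Bool := !(cube Q && Nat.beq (fixC Q) 3)

/-- Leaf test: no involution with exactly `k` fixed points. -/
def leafNo (k Q : ℕ) : Bool := !(square Q && Nat.beq (fixC Q) k)

theorem wit_ok : allL checkAut W3A = true ∧ allL checkAut W2A = true ∧ allL checkAut W3B = true ∧
    allL checkAut W2B = true := by decide +kernel

theorem reps_ok : checkAut x3A = true ∧ checkAut x3B = true ∧ checkAut t2A = true ∧ checkAut t2B = true ∧
    checkAut P3B = true ∧ checkAut P3f = true ∧ checkAut P2B = true ∧ checkAut P2f = true := by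
  decide +kernel

theorem run5 : treeAux leaf5 (fun _ _ => false) lv5 [3, 2, 1, 0, 23] idP = true := by decide +kernel
theorem run3B : treeAux leaf3B (fun _ _ => false) lv4 [2, 1, 0, 23] P3B = true := by decide +kernel
theorem run2B : treeAux leaf2B (fun _ _ => false) lv4 [2, 1, 0, 23] P2B = true := by decide +kernel
theorem run3f : treeAux leaf3f (fun _ _ => false) lv4 [2, 1, 0, 23] P3f = true := by decide +kernel
theorem run2f : treeAux (leafNo 2) (fun _ _ => false) lv4 [2, 1, 0, 23] P2f = true := by decide +kernel
theorem run4 : treeAux (leafNo 4) (fun _ _ => false) lv4 [2, 1, 0, 23] idP = true := by decide +kernel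

/-! ## The classes -/

theorem card_fix_conj (τ σ : Equiv.Perm GolayPt) :
    (Finset.univ.filter fun p => (τ * σ * τ⁻¹) p = p).card = (Finset.univ.filter fun p => σ p = p).card := by
  symm
  apply Finset.card_bij (fun p _ => τ p)
  · intro p hp
    simp only [Finset.mem_filter, Finset.mem_univ, true_and] at hp ⊢
    simp [hp]
  · intro a _ b _ h
    exact τ.injective h
  · intro q hq
    simp only [Finset.mem_filter, Finset.mem_univ, true_and] at hq
    refine ⟨τ⁻¹ q, ?_, by simp⟩
    simp only [Finset.mem_filter, Finset.mem_univ, true_and]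
    have h2 : τ (σ (τ⁻¹ q)) = q := by
      simpa [Equiv.Perm.mul_apply] using hq
    apply τ.injective
    rw [h2]
    simp

theorem exists_pts (s : Finset GolayPt) (k : ℕ) (h : k ≤ s.card) :
    ∃ a : Fin k ↪ GolayPt, ∀ i, a i ∈ s := by
  have h' : Fintype.card (Fin k) ≤ Fintype.card s := by simpa using h
  obtain ⟨e⟩ := Function.Embedding.nonempty_of_card_le h'
  exact ⟨e.trans (Function.Embedding.subtype _), fun i => (e i).2⟩

theorem exists_not_mem (s : Finset GolayPt) (h : s.card < 24) : ∃ p, p ∉ s := by
  by_contra hc
  push Not at hc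
  have : s = Finset.univ := Finset.eq_univ_iff_forall.mpr hc
  rw [this, Finset.card_univ, card_golayPt] at h
  omega

theorem conj_apply {τ σ : Equiv.Perm GolayPt} {x y : GolayPt} (h : τ x = y) :
    (τ * σ * τ⁻¹) y = τ (σ x) := by
  rw [← h]
  simp

theorem eq_one_of_card {σ : Equiv.Perm GolayPt}
    (h : (Finset.univ.filter fun p => σ p = p).card = 24) : σ = 1 := by
  have h1 : (Finset.univ.filter fun p => σ p = p) = Finset.univ := by
    apply Finset.eq_univ_of_card
    rw [h, card_golayPt]
  ext1 p
  have h2 : p ∈ Finset.univ.filter fun p => σ p = p := by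
    rw [h1]
    exact Finset.mem_univ p
  simpa using (Finset.mem_filter.mp h2).2

theorem one_of_conj {τ σ : Equiv.Perm GolayPt} (h : τ * σ * τ⁻¹ = 1) : σ = 1 := by
  have : σ = τ⁻¹ * (τ * σ * τ⁻¹) * τ := by group
  rw [this, h]
  group

theorem fix_mod {σ : Equiv.Perm GolayPt} {p n : ℕ} [Fact p.Prime] (h : σ ^ p ^ n = 1) :
    (Finset.univ.filter fun x => σ x = x).card ≡ 24 [MOD p] := by
  have h1 := Equiv.Perm.card_compl_support_modEq h
  have h2 : σ.supportᶜ = Finset.univ.filter fun x => σ x = x := by
    ext x
    simp
  rw [h2, card_golayPt] at h1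
  exact h1

theorem not_fixed_exists {σ : Equiv.Perm GolayPt} (hne : σ ≠ 1) : ∃ d, σ d ≠ d := by
  by_contra hc
  push Not at hc
  exact hne (Equiv.ext hc)

theorem wit_spec {W : List ℕ} (h : allL checkAut W = true) : ∀ ρ ∈ W, checkAut ρ = true :=
  allL_iff.mp h

theorem img_P3f : img P3f 23 = 23 ∧ img P3f 0 = 0 ∧ img P3f 1 = 1 ∧ img P3f 2 = 3 := by decide +kernel
theorem img_P3B : img P3B 23 = 0 ∧ img P3B 0 = 1 ∧ img P3B 1 = 23 ∧ img P3B 2 = 3 := by decide +kernel
theorem img_P2B : img P2B 23 = 0 ∧ img P2B 0 = 23 ∧ img P2B 1 = 2 ∧ img P2B 2 = 1 := by decide +kernel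
theorem img_P2f : img P2f 23 = 23 ∧ img P2f 0 = 0 ∧ img P2f 1 = 2 ∧ img P2f 2 = 1 := by decide +kernel
theorem img_idP : img idP 23 = 23 ∧ img idP 0 = 0 ∧ img idP 1 = 1 ∧ img idP 2 = 2 := by decide +kernel

/-- Five fixed points. -/
theorem five_fixed {σ : Equiv.Perm GolayPt} (hσ : σ ∈ M24) (hne : σ ≠ 1)
    (h5 : 5 ≤ (Finset.univ.filter fun p => σ p = p).card) :
    ∃ τ ∈ M24, ∃ Q, Good Q ∧ τ * σ * τ⁻¹ = g Q ∧ leaf5 Q = true ∧
      fixC Q = (Finset.univ.filter fun p => σ p = p).card ∧ Nat.beq (fixC Q) 24 = false := by
  obtain ⟨a, ha⟩ := exists_pts _ 5 h5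
  have hfix : ∀ i, σ (a i) = a i := fun i => (Finset.mem_filter.mp (ha i)).2
  have hne' : ∀ i j : Fin 5, i ≠ j → a i ≠ a j := fun i j h h' => h (a.injective h')
  obtain ⟨τ, hτ, t0, t1, t2, t3, t4⟩ := exists_tau5 (hne' 0 1 (by decide)) (hne' 0 2 (by decide))
    (hne' 0 3 (by decide)) (hne' 0 4 (by decide)) (hne' 1 2 (by decide)) (hne' 1 3 (by decide))
    (hne' 1 4 (by decide)) (hne' 2 3 (by decide)) (hne' 2 4 (by decide)) (hne' 3 4 (by decide))
  have hσ' : τ * σ * τ⁻¹ ∈ M24 := M24.mul_mem (M24.mul_mem hτ hσ) (M24.inv_mem hτ)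
  obtain ⟨Q, hQ, hleaf, hQe⟩ := tree5 run5 hσ'
    (by rw [conj_apply t0, hfix, t0]) (by rw [conj_apply t1, hfix, t1]) (by rw [conj_apply t2, hfix, t2])
    (by rw [conj_apply t3, hfix, t3]) (by rw [conj_apply t4, hfix, t4])
  have hfc : fixC Q = (Finset.univ.filter fun p => σ p = p).card := by
    rw [fixC_eq hQ.1, ← hQe, card_fix_conj]
  refine ⟨τ, hτ, Q, hQ, hQe, hleaf, hfc, ?_⟩
  cases h : Nat.beq (fixC Q) 24 with
  | false => rfl
  | true =>
    exfalso
    have h1 := Nat.eq_of_beq_eq_true h
    rw [hfc] at h1
    exact hne (eq_one_of_card h1)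

/-- **Classes of elements of order 3.** -/
theorem class3 {σ : Equiv.Perm GolayPt} (hσ : σ ∈ M24) (h3 : σ ^ 3 = 1) (hne : σ ≠ 1) :
    ((Finset.univ.filter fun p => σ p = p).card = 6 ∧ ∃ τ ∈ M24, τ * σ * τ⁻¹ = g x3A) ∨
      ((Finset.univ.filter fun p => σ p = p).card = 0 ∧ ∃ τ ∈ M24, τ * σ * τ⁻¹ = g x3B) := by
  set f := (Finset.univ.filter fun p => σ p = p).card with hf
  have hmod : f ≡ 24 [MOD 3] := by
    have : Fact (Nat.Prime 3) := ⟨by norm_num⟩
    exact fix_mod (p := 3) (n := 1) (by simpa using h3)
  have hmod' : f % 3 = 0 := hmod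
  by_cases h5 : 5 ≤ f
  · obtain ⟨τ, hτ, Q, hQ, hQe, hleaf, hfc, h24⟩ := five_fixed hσ hne h5
    have hcube : cube Q = true := by
      apply cube_of_pow hQ.1
      rw [← hQe]
      rw [conj_pow, h3]
      group
    simp only [leaf5, h24, Bool.false_or, Bool.and_eq_true, Bool.or_eq_true, hcube, Bool.not_true] at hleaf
    obtain ⟨⟨h6, hc⟩, -⟩ := hleaf
    left
    refine ⟨hfc.symm.trans (Nat.eq_of_beq_eq_true h6), ?_⟩
    obtain ⟨τ', hτ', he⟩ := conj_of_conjTo (checkAut_valid reps_ok.1) (wit_spec wit_ok.1) hQ.1 hc
    refine ⟨τ' * τ, M24.mul_mem hτ' hτ, ?_⟩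
    rw [← he, ← hQe]
    group
  · have hf3 : f = 0 ∨ f = 3 := by omega
    rcases hf3 with hf0 | hf3
    · -- no fixed point
      right
      refine ⟨hf0, ?_⟩
      have hnf : ∀ p, σ p ≠ p := by
        intro p hp
        have : p ∈ Finset.univ.filter fun p => σ p = p := by simp [hp]
        rw [Finset.card_eq_zero.mp hf0] at this
        simp at this
      have h33 : ∀ p, σ (σ (σ p)) = p := by
        intro p
        have := congrArg (fun f : Equiv.Perm GolayPt => f p) h3
        simpa [pow_succ, Equiv.Perm.mul_apply] using this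
      set a : GolayPt := pt 0 with ha
      set b := σ a with hb
      set c := σ b with hc
      have hac : σ c = a := h33 a
      obtain ⟨q, hq⟩ := exists_not_mem {a, b, c} (lt_of_le_of_lt Finset.card_le_three (by norm_num))
      simp only [Finset.mem_insert, Finset.mem_singleton, not_or] at hq
      obtain ⟨hqa, hqb, hqc⟩ := hq
      have h1 : a ≠ b := fun h => hnf a h.symm
      have h2 : b ≠ c := fun h => hnf b h.symm
      have h3' : a ≠ c := fun h => hnf c (by rw [hac]; exact h)
      have h4 : σ q ≠ a := fun h => hqc (σ.injective (h.trans hac.symm))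
      have h5' : σ q ≠ b := fun h => hqa (σ.injective h)
      have h6 : σ q ≠ c := fun h => hqb (σ.injective h)
      obtain ⟨τ, hτ, t0, t1, t2, t3, t4⟩ := exists_tau5 h1 h3' (Ne.symm hqa) (Ne.symm h4) h2 (Ne.symm hqb)
        (Ne.symm h5') (Ne.symm hqc) (Ne.symm h6) (Ne.symm (hnf q))
      have hσ' : τ * σ * τ⁻¹ ∈ M24 := M24.mul_mem (M24.mul_mem hτ hσ) (M24.inv_mem hτ)
      obtain ⟨e0, e1, e2, e3⟩ := img_P3B
      obtain ⟨Q, hQ, hleaf, hQe⟩ := tree4 (good_of_check reps_ok.2.2.2.2.1) run3B hσ'
        (by rw [conj_apply t0, e0, ← hb, t1]) (by rw [conj_apply t1, e1, ← hc, t2])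
        (by rw [conj_apply t2, e2, hac, t0]) (by rw [conj_apply t3, e3, t4])
      have hcube : cube Q = true := by
        apply cube_of_pow hQ.1
        rw [← hQe]
        rw [conj_pow, h3]
        group
      have hfc : fixC Q = f := by
        rw [fixC_eq hQ.1, ← hQe, card_fix_conj]
      have hb0 : Nat.beq (fixC Q) 0 = true := by
        rw [hfc, hf0]
        rfl
      simp only [leaf3B, hcube, hb0, Bool.and_self, Bool.not_true, Bool.false_or] at hleaf
      obtain ⟨τ', hτ', he⟩ := conj_of_conjTo (checkAut_valid reps_ok.2.1) (wit_spec wit_ok.2.2.1) hQ.1 hleaf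
      refine ⟨τ' * τ, M24.mul_mem hτ' hτ, ?_⟩
      rw [← he, ← hQe]
      group
    · -- three fixed points: impossible
      exfalso
      obtain ⟨a, ha⟩ := exists_pts _ 3 (le_of_eq hf3.symm)
      have hfix : ∀ i, σ (a i) = a i := fun i => (Finset.mem_filter.mp (ha i)).2
      have hne' : ∀ i j : Fin 3, i ≠ j → a i ≠ a j := fun i j h h' => h (a.injective h')
      obtain ⟨d, hd⟩ := not_fixed_exists hne
      have h1 : ∀ i, a i ≠ d := fun i h => hd (h ▸ hfix i)
      have h2 : ∀ i, a i ≠ σ d := fun i h => hd (σ.injective (by rw [← h, hfix]))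
      obtain ⟨τ, hτ, t0, t1, t2, t3, t4⟩ := exists_tau5 (hne' 0 1 (by decide)) (hne' 0 2 (by decide))
        (h1 0) (h2 0) (hne' 1 2 (by decide)) (h1 1) (h2 1) (h1 2) (h2 2) (Ne.symm hd)
      have hσ' : τ * σ * τ⁻¹ ∈ M24 := M24.mul_mem (M24.mul_mem hτ hσ) (M24.inv_mem hτ)
      obtain ⟨e0, e1, e2, e3⟩ := img_P3f
      obtain ⟨Q, hQ, hleaf, hQe⟩ := tree4 (good_of_check reps_ok.2.2.2.2.2.1) run3f hσ'
        (by rw [conj_apply t0, e0, hfix, t0]) (by rw [conj_apply t1, e1, hfix, t1])
        (by rw [conj_apply t2, e2, hfix, t2]) (by rw [conj_apply t3, e3, t4])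
      have hcube : cube Q = true := by
        apply cube_of_pow hQ.1
        rw [← hQe]
        rw [conj_pow, h3]
        group
      have hfc : fixC Q = f := by
        rw [fixC_eq hQ.1, ← hQe, card_fix_conj]
      have hb3 : Nat.beq (fixC Q) 3 = true := by
        rw [hfc, hf3]
        rfl
      simp [leaf3f, hcube, hb3] at hleaf

/-- **Classes of involutions.** -/
theorem class2 {σ : Equiv.Perm GolayPt} (hσ : σ ∈ M24) (h2 : σ ^ 2 = 1) (hne : σ ≠ 1) :
    ((Finset.univ.filter fun p => σ p = p).card = 8 ∧ ∃ τ ∈ M24, τ * σ * τ⁻¹ = g t2A) ∨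
      ((Finset.univ.filter fun p => σ p = p).card = 0 ∧ ∃ τ ∈ M24, τ * σ * τ⁻¹ = g t2B) := by
  set f := (Finset.univ.filter fun p => σ p = p).card with hf
  have hmod : f ≡ 24 [MOD 2] := by
    have : Fact (Nat.Prime 2) := ⟨by norm_num⟩
    exact fix_mod (p := 2) (n := 1) (by simpa using h2)
  have hmod' : f % 2 = 0 := hmod
  have h22 : ∀ p, σ (σ p) = p := by
    intro p
    have := congrArg (fun f : Equiv.Perm GolayPt => f p) h2
    simpa [pow_succ, Equiv.Perm.mul_apply] using this
  have hsq : ∀ {τ Q : _}, τ * σ * τ⁻¹ = g Q → Good Q → square Q = true := by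
    intro τ Q hQe hQ
    apply square_of_pow hQ.1
    rw [← hQe, conj_pow, h2]
    group
  by_cases h5 : 5 ≤ f
  · obtain ⟨τ, hτ, Q, hQ, hQe, hleaf, hfc, h24⟩ := five_fixed hσ hne h5
    have hsquare := hsq hQe hQ
    simp only [leaf5, h24, Bool.false_or, Bool.and_eq_true, Bool.or_eq_true, hsquare, Bool.not_true] at hleaf
    obtain ⟨-, h6, hc⟩ := hleaf
    left
    refine ⟨hfc.symm.trans (Nat.eq_of_beq_eq_true h6), ?_⟩
    obtain ⟨τ', hτ', he⟩ := conj_of_conjTo (checkAut_valid reps_ok.2.2.1) (wit_spec wit_ok.2.1) hQ.1 hc
    refine ⟨τ' * τ, M24.mul_mem hτ' hτ, ?_⟩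
    rw [← he, ← hQe]
    group
  · have hf3 : f = 0 ∨ f = 2 ∨ f = 4 := by omega
    rcases hf3 with hf0 | hf2 | hf4
    · -- no fixed point
      right
      refine ⟨hf0, ?_⟩
      have hnf : ∀ p, σ p ≠ p := by
        intro p hp
        have : p ∈ Finset.univ.filter fun p => σ p = p := by simp [hp]
        rw [Finset.card_eq_zero.mp hf0] at this
        simp at this
      set a : GolayPt := pt 0 with ha
      obtain ⟨c, hc⟩ := exists_not_mem {a, σ a} (lt_of_le_of_lt Finset.card_le_two (by norm_num))
      simp only [Finset.mem_insert, Finset.mem_singleton, not_or] at hc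
      obtain ⟨hca, hcb⟩ := hc
      obtain ⟨e, he⟩ := exists_not_mem {a, σ a, c, σ c} (lt_of_le_of_lt Finset.card_le_four (by norm_num))
      simp only [Finset.mem_insert, Finset.mem_singleton, not_or] at he
      obtain ⟨hea, heb, hec, hed⟩ := he
      have h1 : a ≠ σ a := fun h => hnf a h.symm
      have h3 : σ c ≠ a := fun h => hcb (by rw [← h, h22])
      have h4 : σ c ≠ σ a := fun h => hca (σ.injective h)
      obtain ⟨τ, hτ, t0, t1, t2, t3, t4⟩ := exists_tau5 h1 (Ne.symm hca) (Ne.symm h3) (Ne.symm hea)
        (Ne.symm hcb) (Ne.symm h4) (Ne.symm heb) (Ne.symm (hnf c)) (Ne.symm hec) (Ne.symm hed)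
      have hσ' : τ * σ * τ⁻¹ ∈ M24 := M24.mul_mem (M24.mul_mem hτ hσ) (M24.inv_mem hτ)
      obtain ⟨e0, e1, e2, e3⟩ := img_P2B
      obtain ⟨Q, hQ, hleaf, hQe⟩ := tree4 (good_of_check reps_ok.2.2.2.2.2.2.1) run2B hσ'
        (by rw [conj_apply t0, e0, t1]) (by rw [conj_apply t1, e1, h22, t0])
        (by rw [conj_apply t2, e2, t3]) (by rw [conj_apply t3, e3, h22, t2])
      have hsquare := hsq hQe hQ
      have hfc : fixC Q = f := by
        rw [fixC_eq hQ.1, ← hQe, card_fix_conj]
      have hb0 : Nat.beq (fixC Q) 0 = true := by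
        rw [hfc, hf0]
        rfl
      simp only [leaf2B, hsquare, hb0, Bool.and_self, Bool.not_true, Bool.false_or] at hleaf
      obtain ⟨τ', hτ', he⟩ := conj_of_conjTo (checkAut_valid reps_ok.2.2.2.1) (wit_spec wit_ok.2.2.2) hQ.1 hleaf
      refine ⟨τ' * τ, M24.mul_mem hτ' hτ, ?_⟩
      rw [← he, ← hQe]
      group
    · -- two fixed points: impossible
      exfalso
      obtain ⟨a, ha⟩ := exists_pts _ 2 (le_of_eq hf2.symm)
      have hfix : ∀ i, σ (a i) = a i := fun i => (Finset.mem_filter.mp (ha i)).2
      have hne' : ∀ i j : Fin 2, i ≠ j → a i ≠ a j := fun i j h h' => h (a.injective h')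
      obtain ⟨c, hc⟩ := not_fixed_exists hne
      have h1 : ∀ i, a i ≠ c := fun i h => hc (h ▸ hfix i)
      have h3 : ∀ i, a i ≠ σ c := fun i h => hc (σ.injective (by rw [← h, hfix]))
      obtain ⟨e, he⟩ := exists_not_mem {a 0, a 1, c, σ c} (lt_of_le_of_lt Finset.card_le_four (by norm_num))
      simp only [Finset.mem_insert, Finset.mem_singleton, not_or] at he
      obtain ⟨hea, heb, hec, hed⟩ := he
      obtain ⟨τ, hτ, t0, t1, t2, t3, t4⟩ := exists_tau5 (hne' 0 1 (by decide)) (h1 0) (h3 0) (Ne.symm hea)
        (h1 1) (h3 1) (Ne.symm heb) (Ne.symm hc) (Ne.symm hec) (Ne.symm hed)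
      have hσ' : τ * σ * τ⁻¹ ∈ M24 := M24.mul_mem (M24.mul_mem hτ hσ) (M24.inv_mem hτ)
      obtain ⟨e0, e1, e2, e3⟩ := img_P2f
      obtain ⟨Q, hQ, hleaf, hQe⟩ := tree4 (good_of_check reps_ok.2.2.2.2.2.2.2) run2f hσ'
        (by rw [conj_apply t0, e0, hfix, t0]) (by rw [conj_apply t1, e1, hfix, t1])
        (by rw [conj_apply t2, e2, t3]) (by rw [conj_apply t3, e3, h22, t2])
      have hsquare := hsq hQe hQ
      have hfc : fixC Q = f := by
        rw [fixC_eq hQ.1, ← hQe, card_fix_conj]
      have hb3 : Nat.beq (fixC Q) 2 = true := by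
        rw [hfc, hf2]
        rfl
      simp [leafNo, hsquare, hb3] at hleaf
    · -- four fixed points: impossible
      exfalso
      obtain ⟨a, ha⟩ := exists_pts _ 4 (le_of_eq hf4.symm)
      have hfix : ∀ i, σ (a i) = a i := fun i => (Finset.mem_filter.mp (ha i)).2
      have hne' : ∀ i j : Fin 4, i ≠ j → a i ≠ a j := fun i j h h' => h (a.injective h')
      obtain ⟨c, hc⟩ := not_fixed_exists hne
      have h1 : ∀ i, a i ≠ c := fun i h => hc (h ▸ hfix i)
      obtain ⟨τ, hτ, t0, t1, t2, t3, t4⟩ := exists_tau5 (hne' 0 1 (by decide)) (hne' 0 2 (by decide))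
        (hne' 0 3 (by decide)) (h1 0) (hne' 1 2 (by decide)) (hne' 1 3 (by decide)) (h1 1)
        (hne' 2 3 (by decide)) (h1 2) (h1 3)
      have hσ' : τ * σ * τ⁻¹ ∈ M24 := M24.mul_mem (M24.mul_mem hτ hσ) (M24.inv_mem hτ)
      obtain ⟨e0, e1, e2, e3⟩ := img_idP
      obtain ⟨Q, hQ, hleaf, hQe⟩ := tree4 good_idP run4 hσ'
        (by rw [conj_apply t0, e0, hfix, t0]) (by rw [conj_apply t1, e1, hfix, t1])
        (by rw [conj_apply t2, e2, hfix, t2]) (by rw [conj_apply t3, e3, hfix, t3])
      have hsquare := hsq hQe hQ
      have hfc : fixC Q = f := by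
        rw [fixC_eq hQ.1, ← hQe, card_fix_conj]
      have hb3 : Nat.beq (fixC Q) 4 = true := by
        rw [hfc, hf4]
        rfl
      simp [leafNo, hsquare, hb3] at hleaf

end Cfsg.Agent.Lib.M24Data.Classes
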