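import Cfsg.Agent.Lib.M24Data.Universe
import Cfsg.Agent.Lib.M24Data.Classes

/-!
# Enumerating the elements conjugating one packed permutation into another

`pruneC x y` abandons a branch of the walk over the base chain when the partial images are
inconsistent with `σ * g x = g y * σ`.  With `card_list`, the elements found can be counted.
-/

set_option autoImplicit false

namespace Cfsg.Agent.Lib.M24Data.CommTree

open Cfsg Cfsg.Agent.Lib.Golay.Core Cfsg.Agent.Lib.Golay.Perm Cfsg.Agent.Lib.Golay.Chain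
  Cfsg.Agent.Lib.Golay.M24 Cfsg.Agent.Lib.M24Data.OctadPairs Cfsg.Agent.Lib.M24Data.Tree
  Cfsg.Agent.Lib.M24Data.Universe Cfsg.Agent.Lib.M24Data.Classes
open scoped Pointwise

/-- Membership in a list of numbers. -/
def memL (x : ℕ) (F : List ℕ) : Bool := anyL (Nat.beq x) F

theorem memL_iff {x : ℕ} {F : List ℕ} : memL x F = true ↔ x ∈ F :=
  ⟨mem_of_anyL_beq, anyL_beq_of_mem⟩

/-- The pruning test for `σ * g x = g y * σ`. -/
def pruneC (x y : ℕ) (F : List ℕ) (P : ℕ) : Bool :=
  anyL (fun i => memL (img x i) F && !(Nat.beq (img P (img x i)) (img y (img P i)))) F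

theorem pruneC_sound {x y : ℕ} (hx : validPerm x = true) (hy : validPerm y = true)
    {σ : Equiv.Perm GolayPt} (hσ : σ * g x = g y * σ) {F : List ℕ} {P : ℕ} (hP : Good P)
    (hF : ∀ i ∈ F, i < 24) (hag : ∀ i ∈ F, σ (pt i) = pt (img P i)) : pruneC x y F P = false := by
  unfold pruneC
  by_contra hc
  have hc' : anyL (fun i => memL (img x i) F && !(Nat.beq (img P (img x i)) (img y (img P i)))) F = true := by
    simpa using hc
  obtain ⟨i, hi, h1⟩ := anyL_iff.mp hc'
  simp only [Bool.and_eq_true, Bool.not_eq_eq_eq_not, Bool.not_true] at h1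
  obtain ⟨h2, h3⟩ := h1
  have hxi := memL_iff.mp h2
  have hi24 := hF i hi
  have e := congrArg (fun f : Equiv.Perm GolayPt => f (pt i)) hσ
  simp only [Equiv.Perm.mul_apply] at e
  rw [g_pt hx hi24, hag _ hxi, hag _ hi, g_pt hy (valid_img_lt hP.1 hi24)] at e
  have e2 := pt_injOn (valid_img_lt hP.1 (hF _ hxi)) (valid_img_lt hy (valid_img_lt hP.1 hi24)) e
  rw [e2] at h3
  rw [Nat.beq_refl] at h3
  exact absurd h3 (by simp)

/-- The pruning test, guarded. -/
def pruneS (x y : ℕ) (F : List ℕ) (P : ℕ) : Bool :=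
  allL (fun i => Nat.blt i 24) F && pruneC x y F P

theorem pruneS_sound {x y : ℕ} (hx : validPerm x = true) (hy : validPerm y = true) :
    ∀ σ : Equiv.Perm GolayPt, σ * g x = g y * σ → ∀ (F : List ℕ) (P : ℕ), Good P →
      (∀ i ∈ F, σ (pt i) = pt (img P i)) → pruneS x y F P = false := by
  intro σ hσ F P hP hag
  unfold pruneS
  cases h : allL (fun i => Nat.blt i 24) F with
  | false => rfl
  | true =>
    have hF : ∀ i ∈ F, i < 24 := fun i hi => by
      have := allL_iff.mp h i hi
      exact Nat.le_of_ble_eq_true this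
    rw [Bool.true_and]
    exact pruneC_sound hx hy hσ hP hF hag

/-- The test that `Q * x = y * Q`. -/
def commB (x y Q : ℕ) : Bool := allUpTo (fun i => Nat.beq (img Q (img x i)) (img y (img Q i))) 24

theorem commB_of {x y Q : ℕ} (hx : validPerm x = true) (hy : validPerm y = true) (hQ : validPerm Q = true)
    (h : g Q * g x = g y * g Q) : commB x y Q = true := by
  apply allUpTo_iff.mpr
  intro i hi
  have e := congrArg (fun f : Equiv.Perm GolayPt => f (pt i)) h
  simp only [Equiv.Perm.mul_apply] at e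
  rw [g_pt hx hi, g_pt hQ hi, g_pt hQ (valid_img_lt hx hi), g_pt hy (valid_img_lt hQ hi)] at e
  rw [pt_injOn (valid_img_lt hQ (valid_img_lt hx hi)) (valid_img_lt hy (valid_img_lt hQ hi)) e]
  exact Nat.beq_refl _

theorem of_commB {x y Q : ℕ} (hx : validPerm x = true) (hy : validPerm y = true) (hQ : validPerm Q = true)
    (h : commB x y Q = true) : g Q * g x = g y * g Q := by
  ext1 p
  simp only [Equiv.Perm.mul_apply]
  have h1 := Nat.eq_of_beq_eq_true (allUpTo_iff.mp h _ (idx_lt p))
  rw [g_apply hx p, g_pt hQ (valid_img_lt hx (idx_lt p)), h1, g_apply hQ p,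
    g_pt hy (valid_img_lt hQ (idx_lt p))]

/-! ## Counting lists of packed permutations -/

/-- The test that a number is a canonical packed element of the group. -/
def goodC (P : ℕ) : Bool := checkAut P && Nat.beq (pack (img P) 24) P

/-- Distinctness test. -/
def neB (a b : ℕ) : Bool := !(Nat.beq a b)

theorem pack_congr {f f' : ℕ → ℕ} {k : ℕ} (h : ∀ i < k, f i = f' i) : pack f k = pack f' k := by
  induction k with
  | zero => rfl
  | succ k ih =>
    rw [pack_succ, pack_succ, ih (fun i hi => h i (Nat.lt_succ_of_lt hi)), h k (Nat.lt_succ_self k)]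

theorem g_injOn_good {P Q : ℕ} (hP : goodC P = true) (hQ : goodC Q = true) (h : g P = g Q) : P = Q := by
  simp only [goodC, Bool.and_eq_true] at hP hQ
  have h1 : pack (img P) 24 = pack (img Q) 24 :=
    pack_congr fun i hi => g_inj_of_canon (checkAut_valid hP.1) (checkAut_valid hQ.1) h hi
  rw [Nat.eq_of_beq_eq_true hP.2, Nat.eq_of_beq_eq_true hQ.2] at h1
  exact h1

theorem good_of_goodC {P : ℕ} (h : goodC P = true) : Good P := by
  simp only [goodC, Bool.and_eq_true] at h
  exact good_of_check h.1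

/-- The order of a group of permutations given by a list. -/
theorem card_list (S : Subgroup (Equiv.Perm GolayPt)) (L : List ℕ) (hL : allL goodC L = true)
    (hnd : pairB neB L = true) (h1 : ∀ P ∈ L, g P ∈ S) (h2 : ∀ σ ∈ S, ∃ P ∈ L, σ = g P) :
    Nat.card S = L.length := by
  have hnd' : L.Nodup := nodup_of_pairB (r := neB) (fun a _ => by simp [neB, Nat.beq_refl]) hnd
  have hS : (S : Set (Equiv.Perm GolayPt)) = g '' (↑L.toFinset : Set ℕ) := by
    ext σ
    simp only [SetLike.mem_coe, Set.mem_image, List.mem_toFinset]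
    constructor
    · intro h
      obtain ⟨P, hP, rfl⟩ := h2 σ h
      exact ⟨P, hP, rfl⟩
    · rintro ⟨P, hP, rfl⟩
      exact h1 P hP
  show Nat.card (S : Set (Equiv.Perm GolayPt)) = _
  rw [Nat.card_coe_set_eq, hS, Set.InjOn.ncard_image, Set.ncard_coe_finset,
    List.toFinset_card_of_nodup hnd']
  intro P hP Q hQ h
  have hP' : P ∈ L := by simpa using hP
  have hQ' : Q ∈ L := by simpa using hQ
  exact g_injOn_good (allL_iff.mp hL P hP') (allL_iff.mp hL Q hQ') h

end Cfsg.Agent.Lib.M24Data.CommTree
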