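import Cfsg.Agent.Lib.M24Data.CommTree

/-!
# Subgroups of the group of the code given by lists of packed permutations
-/

set_option autoImplicit false

namespace Cfsg.Agent.Lib.M24Data.ListGroup

open Cfsg Cfsg.Agent.Lib.Golay.Core Cfsg.Agent.Lib.Golay.Perm Cfsg.Agent.Lib.M24Data.Tree
  Cfsg.Agent.Lib.M24Data.CommTree Cfsg.Agent.Lib.M24Data.Universe

/-- A nonempty subset of a finite group closed under multiplication, as a subgroup. -/
def subOf {G : Type*} [Group G] [Finite G] (S : Set G) (hne : S.Nonempty)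
    (hmul : ∀ a ∈ S, ∀ b ∈ S, a * b ∈ S) : Subgroup G :=
  have hpow : ∀ a ∈ S, ∀ n : ℕ, a ^ (n + 1) ∈ S := by
    intro a ha n
    induction n with
    | zero => simpa using ha
    | succ n ih =>
      rw [pow_succ]
      exact hmul _ ih _ ha
  { carrier := S
    mul_mem' := fun {a b} ha hb => hmul a ha b hb
    one_mem' := by
      obtain ⟨a, ha⟩ := hne
      have h1 : 0 < orderOf a := orderOf_pos a
      have h2 := hpow a ha (orderOf a - 1)
      rw [Nat.sub_add_cancel h1, pow_orderOf_eq_one] at h2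
      exact h2
    inv_mem' := by
      intro a ha
      have h1 : 0 < orderOf a := orderOf_pos a
      by_cases h2 : orderOf a = 1
      · rw [orderOf_eq_one_iff.mp h2, inv_one]
        rw [orderOf_eq_one_iff.mp h2] at ha
        exact ha
      · have h3 : a⁻¹ = a ^ (orderOf a - 2 + 1) := by
          rw [inv_eq_iff_mul_eq_one, ← pow_succ', ]
          have : orderOf a - 2 + 1 + 1 = orderOf a := by omega
          rw [this, pow_orderOf_eq_one]
        rw [h3]
        exact hpow a ha _ }

@[simp] theorem mem_subOf {G : Type*} [Group G] [Finite G] {S : Set G} {hne : S.Nonempty}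
    {hmul : ∀ a ∈ S, ∀ b ∈ S, a * b ∈ S} {x : G} : x ∈ subOf S hne hmul ↔ x ∈ S := Iff.rfl

/-- Closure of a list under composition. -/
def closedB (L : List ℕ) : Bool := allL (fun a => allL (fun b => memL (comp a b) L) L) L

/-- The set of a list. -/
def setL (L : List ℕ) : Set (Equiv.Perm GolayPt) := {σ | ∃ Q ∈ L, σ = g Q}

/-- A list closed under composition, as a subgroup. -/
noncomputable def subL (L : List ℕ) {a0 : ℕ} (ha0 : a0 ∈ L) (hgood : allL goodC L = true)
    (hcl : closedB L = true) : Subgroup (Equiv.Perm GolayPt) :=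
  subOf (setL L) ⟨g a0, a0, ha0, rfl⟩ (by
    rintro _ ⟨a, ha, rfl⟩ _ ⟨b, hb, rfl⟩
    have h1 := allL_iff.mp (allL_iff.mp hcl a ha) b hb
    have hva := (good_of_goodC (allL_iff.mp hgood a ha)).1
    have hvb := (good_of_goodC (allL_iff.mp hgood b hb)).1
    exact ⟨comp a b, memL_iff.mp h1, (g_comp hva hvb).symm⟩)

theorem mem_subL {L : List ℕ} {a0 : ℕ} {ha0 : a0 ∈ L} {hgood : allL goodC L = true}
    {hcl : closedB L = true} {σ : Equiv.Perm GolayPt} :
    σ ∈ subL L ha0 hgood hcl ↔ ∃ Q ∈ L, σ = g Q := Iff.rfl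

theorem card_subL (L : List ℕ) {a0 : ℕ} (ha0 : a0 ∈ L) (hgood : allL goodC L = true)
    (hcl : closedB L = true) (hnd : pairB neB L = true) :
    Nat.card (subL L ha0 hgood hcl) = L.length :=
  card_list _ L hgood hnd (fun P hP => mem_subL.mpr ⟨P, hP, rfl⟩) (fun _ hσ => mem_subL.mp hσ)

theorem subL_le {L : List ℕ} {a0 : ℕ} {ha0 : a0 ∈ L} {hgood : allL goodC L = true}
    {hcl : closedB L = true} : subL L ha0 hgood hcl ≤ Cfsg.M24 := by
  intro σ hσ
  obtain ⟨Q, hQ, rfl⟩ := mem_subL.mp hσ
  exact (good_of_goodC (allL_iff.mp hgood Q hQ)).2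

end Cfsg.Agent.Lib.M24Data.ListGroup
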