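import Cfsg.Agent.Lib.Golay.Basic
import Cfsg.Agent.Lib.Golay.DualCheck

/-!
# Pairs of octads

For two distinct octads the intersection has size 0, 2 or 4.  In the last two cases we describe
their common disjoint octads: the basis of the statement on the octad graph.
-/

set_option autoImplicit false

namespace Cfsg.Agent.Lib.M24Data.OctadPairs

open Cfsg Cfsg.Agent.Lib.Golay.Core Cfsg.Agent.Lib.Golay.Perm Cfsg.Agent.Lib.Golay.Chain
  Cfsg.Agent.Lib.Golay.M24 Cfsg.Agent.Lib.Golay.Basic Cfsg.Agent.Lib.Golay.DualCheck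
open scoped Pointwise

/-- `anyL p l`: `p x` holds for some member of the list. -/
def anyL (p : ℕ → Bool) (l : List ℕ) : Bool := !(allL (fun x => !(p x)) l)

theorem anyL_iff {p : ℕ → Bool} {l : List ℕ} : anyL p l = true ↔ ∃ x ∈ l, p x = true := by
  unfold anyL
  cases h : allL (fun x => !(p x)) l with
  | true =>
    have h' := allL_iff.mp h
    simp only [Bool.not_true, Bool.false_eq_true, false_iff, not_exists, not_and]
    intro x hx hpx
    have := h' x hx
    simp [hpx] at this
  | false =>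
    simp only [Bool.not_false, true_iff]
    by_contra hc
    push Not at hc
    have : allL (fun x => !(p x)) l = true := by
      apply allL_iff.mpr
      intro x hx
      simp [hc x hx]
    rw [h] at this
    exact absurd this (by simp)

/-- Disjointness of masks. -/
def disj (a b : ℕ) : Bool := Nat.beq (Nat.land a b) 0

theorem disj_iff {a b : ℕ} : disj a b = true ↔ a &&& b = 0 := by
  simp only [disj]
  exact ⟨Nat.eq_of_beq_eq_true, fun h => by rw [show Nat.land a b = a &&& b from rfl, h]; rfl⟩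

theorem disjoint_setOf_of {a b : ℕ} (h : disj a b = true) : Disjoint (setOf a) (setOf b) := by
  rw [Finset.disjoint_iff_inter_eq_empty, ← setOf_inter, disj_iff.mp h]
  ext p
  simp

theorem disj_of_disjoint {a b : ℕ} (ha : a < 2 ^ 24) (h : Disjoint (setOf a) (setOf b)) :
    disj a b = true := by
  rw [Finset.disjoint_iff_inter_eq_empty, ← setOf_inter] at h
  apply disj_iff.mpr
  have h2 : setOf (a &&& b) = setOf 0 := by rw [h]; ext p; simp
  exact eq_of_setOf_eq (lt_of_le_of_lt Nat.and_le_left ha) (by norm_num) h2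

/-- The octads disjoint from the reference octad. -/
def D30 : List ℕ := [6889680, 4038912, 5538256, 832080, 6656640, 3216208, 5780352, 6100032, 3421328, 6337856, 628112, 5350928, 3704512, 7079696, 337856, 7903248, 1161408, 4536592, 2890176, 7612992, 1903248, 4819776, 2141072, 2460752, 5024896, 1584464, 7409024, 2702848, 4202192, 1351424]

theorem D30_spec : allUpTo (fun m => !(Nat.beq (pop (code m)) 8 && disj O0 (code m)) ||
    anyL (Nat.beq (code m)) D30) 4096 = true := by
  decide +kernel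

/-- The test for a pair consisting of the reference octad and another word. -/
def pairOK (c : ℕ) : Bool :=
  Nat.beq c O0 || Nat.beq (pop (Nat.land c O0)) 0 ||
    (Nat.beq (pop (Nat.land c O0)) 4 && anyL (fun x => disj c x) D30) ||
    (Nat.beq (pop (Nat.land c O0)) 2 && allL (fun x => !(disj c x)) D30 &&
      anyL (fun a => anyL (fun b => disj a b && disj b c) octK) D30)

theorem pairs_check :
    allUpTo (fun m => !(Nat.beq (pop (code m)) 8) || pairOK (code m)) 4096 = true := by
  decide +kernel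

theorem D30_mem {c : ℕ} (hc : isCode c = true) (h8 : pop c = 8) (hd : disj O0 c = true) : c ∈ D30 := by
  obtain ⟨m, hm, rfl⟩ := isCode_iff.mp hc
  have h := allUpTo_iff.mp D30_spec m hm
  simp only [h8, hd, Bool.or_eq_true, Bool.not_eq_eq_eq_not, Bool.not_true] at h
  rcases h with h | h
  · exact absurd h (by decide)
  · obtain ⟨x, hx, hxe⟩ := anyL_iff.mp h
    rw [Nat.eq_of_beq_eq_true hxe]
    exact hx

theorem octK_mem {c : ℕ} (hc : isCode c = true) (h8 : pop c = 8) : c ∈ octK := by
  obtain ⟨m, hm, rfl⟩ := isCode_iff.mp hc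
  rw [octK_eq, octM_eq, List.mem_map]
  exact ⟨m, List.mem_filter.mpr ⟨List.mem_range.mpr hm, by simp [h8]⟩, rfl⟩

theorem octK_spec : ∀ c ∈ octK, isCode c = true ∧ pop c = 8 ∧ c < 2 ^ 24 := by
  have h : allL (fun c => isCode c && Nat.beq (pop c) 8 && Nat.blt c 16777216) octK = true := by
    decide +kernel
  intro c hc
  have := allL_iff.mp h c hc
  simp only [Bool.and_eq_true] at this
  refine ⟨this.1.1, Nat.eq_of_beq_eq_true this.1.2, ?_⟩
  have h3 := this.2
  have h4 : c < 16777216 := by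
    rw [Nat.blt_eq] at h3
    exact h3
  exact h4

theorem D30_spec' : ∀ c ∈ D30, isCode c = true ∧ pop c = 8 ∧ c < 2 ^ 24 ∧ disj O0 c = true := by
  have h : allL (fun c => isCode c && Nat.beq (pop c) 8 && Nat.blt c 16777216 && disj O0 c) D30 = true := by
    decide +kernel
  intro c hc
  have := allL_iff.mp h c hc
  simp only [Bool.and_eq_true] at this
  refine ⟨this.1.1.1, Nat.eq_of_beq_eq_true this.1.1.2, ?_, this.2⟩
  have h3 := this.1.2
  have h4 : c < 16777216 := by
    rw [Nat.blt_eq] at h3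
    exact h3
  exact h4

theorem O0_lt : O0 < 2 ^ 24 := by decide +kernel

theorem disjoint_smul_iff (σ : Equiv.Perm GolayPt) (A B : Finset GolayPt) :
    Disjoint (σ • A) (σ • B) ↔ Disjoint A B := by
  rw [Finset.disjoint_iff_inter_eq_empty, Finset.disjoint_iff_inter_eq_empty,
    ← Finset.smul_finset_inter, Finset.smul_finset_eq_empty]

theorem card_inter_smul (σ : Equiv.Perm GolayPt) (A B : Finset GolayPt) :
    ((σ • A) ∩ (σ • B)).card = (A ∩ B).card := by
  rw [← Finset.smul_finset_inter, Finset.card_smul_finset]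

/-- The statement for a pair of octads. -/
def PairP (o o' : Finset GolayPt) : Prop :=
  (o ∩ o').card = 0 ∨
    ((o ∩ o').card = 4 ∧ ∃ x ∈ octads, Disjoint o x ∧ Disjoint o' x) ∨
    ((o ∩ o').card = 2 ∧ (∀ x ∈ octads, ¬ (Disjoint o x ∧ Disjoint o' x)) ∧
      ∃ a ∈ octads, ∃ b ∈ octads, Disjoint o a ∧ Disjoint a b ∧ Disjoint b o')

theorem pairP_smul {σ : Equiv.Perm GolayPt} (hσ : σ ∈ M24) {o o' : Finset GolayPt}
    (h : PairP o o') : PairP (σ • o) (σ • o') := by
  unfold PairP at h ⊢
  simp only [card_inter_smul]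
  rcases h with h | ⟨h, x, hx, h1, h2⟩ | ⟨h, h1, a, ha, b, hb, h2, h3, h4⟩
  · exact Or.inl h
  · refine Or.inr (Or.inl ⟨h, σ • x, smul_mem_octads hσ hx, ?_, ?_⟩)
    · rwa [disjoint_smul_iff]
    · rwa [disjoint_smul_iff]
  · refine Or.inr (Or.inr ⟨h, ?_, σ • a, smul_mem_octads hσ ha, σ • b, smul_mem_octads hσ hb, ?_, ?_, ?_⟩)
    · rintro x hx ⟨h5, h6⟩
      have hx' : x = σ • (σ⁻¹ • x) := by simp
      rw [hx', disjoint_smul_iff] at h5 h6
      exact h1 _ (smul_mem_octads (M24.inv_mem hσ) hx) ⟨h5, h6⟩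
    · rwa [disjoint_smul_iff]
    · rwa [disjoint_smul_iff]
    · rwa [disjoint_smul_iff]

theorem pairP_base {c : ℕ} (hc : isCode c = true) (h8 : pop c = 8) (hc24 : c < 2 ^ 24) (hne : c ≠ O0) :
    PairP (setOf O0) (setOf c) := by
  have hcard : (setOf O0 ∩ setOf c).card = pop (Nat.land c O0) := by
    rw [← setOf_inter, Nat.and_comm, card_setOf]
    rfl
  obtain ⟨m, hm, hmc⟩ := isCode_iff.mp hc
  have hchk : pairOK c = true := by
    have h := allUpTo_iff.mp pairs_check m hm
    rw [← hmc] at h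
    simp only [h8, Bool.or_eq_true, Bool.not_eq_eq_eq_not, Bool.not_true] at h
    rcases h with h | h
    · exact absurd h (by decide)
    · exact h
  have hsetOf : ∀ x : Finset GolayPt, x ∈ octads → ∃ y : ℕ, x = setOf y ∧ y ∈ octK := by
    intro x hx
    obtain ⟨n, hn, hk, rfl⟩ := mem_octads_iff.mp hx
    exact ⟨code n, rfl, octK_mem (isCode_code hn) hk⟩
  have hoct : ∀ y ∈ octK, setOf y ∈ octads := fun y hy => by
    obtain ⟨h1, h2, h3⟩ := octK_spec y hy
    exact (setOf_mem_octads_iff h3).mpr ⟨h1, h2⟩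
  have hoct30 : ∀ y ∈ D30, setOf y ∈ octads := fun y hy => by
    obtain ⟨h1, h2, h3, -⟩ := D30_spec' y hy
    exact (setOf_mem_octads_iff h3).mpr ⟨h1, h2⟩
  unfold PairP
  rw [hcard]
  simp only [pairOK, Bool.or_eq_true, Bool.and_eq_true] at hchk
  rcases hchk with ((h | h) | ⟨h1, h2⟩) | ⟨⟨h1, h2⟩, h3⟩
  · exact absurd (Nat.eq_of_beq_eq_true h) hne
  · exact Or.inl (Nat.eq_of_beq_eq_true h)
  · right; left
    refine ⟨Nat.eq_of_beq_eq_true h1, ?_⟩
    obtain ⟨x, hx, hxd⟩ := anyL_iff.mp h2
    exact ⟨setOf x, hoct30 x hx, disjoint_setOf_of (D30_spec' x hx).2.2.2, disjoint_setOf_of hxd⟩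
  · right; right
    refine ⟨Nat.eq_of_beq_eq_true h1, ?_, ?_⟩
    · rintro x hx ⟨hx1, hx2⟩
      obtain ⟨y, rfl, hy⟩ := hsetOf x hx
      have hy' := octK_spec y hy
      have h5 : disj O0 y = true := disj_of_disjoint O0_lt hx1
      have h6 : disj c y = true := disj_of_disjoint hc24 hx2
      have h7 := allL_iff.mp h2 y (D30_mem hy'.1 hy'.2.1 h5)
      rw [h6] at h7
      exact absurd h7 (by decide)
    · obtain ⟨a, ha, h4⟩ := anyL_iff.mp h3
      obtain ⟨b, hb, h5⟩ := anyL_iff.mp h4
      simp only [Bool.and_eq_true] at h5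
      exact ⟨setOf a, hoct30 a ha, setOf b, hoct b hb, disjoint_setOf_of (D30_spec' a ha).2.2.2,
        disjoint_setOf_of h5.1, disjoint_setOf_of h5.2⟩

/-- **Pairs of distinct octads.** -/
theorem pair_cases {o o' : Finset GolayPt} (ho : o ∈ octads) (ho' : o' ∈ octads) (hne : o ≠ o') :
    PairP o o' := by
  obtain ⟨σ, hσ, rfl⟩ := exists_smul_O0 ho
  have h1 : σ⁻¹ • o' ∈ octads := smul_mem_octads (M24.inv_mem hσ) ho'
  obtain ⟨n, hn, hk, hn'⟩ := mem_octads_iff.mp h1
  have h2 : o' = σ • setOf (code n) := by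
    rw [← hn']
    simp
  rw [h2]
  apply pairP_smul hσ
  apply pairP_base (isCode_code hn) hk (code_lt hn)
  intro h
  apply hne
  rw [h2, h]

end Cfsg.Agent.Lib.M24Data.OctadPairs
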