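import Cfsg.Agent.Lib.Golay.Dodecad
import Cfsg.Agent.Lib.M24Data.OctadPairs

/-!
# Backtracking over the base chain of the group of the code

Every element `σ` of the group of the code is the product of one element per level of the
transversal tables `T0, ..., T6`.  `treeAux leaf prune levels F P` walks down the levels from the
partial product `P`; a branch is abandoned when `prune` says that no element with the given property
can have the same images on the base points seen so far.  The check proves a property of all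
elements of the group satisfying `Φ`.
-/

set_option autoImplicit false

namespace Cfsg.Agent.Lib.M24Data.Tree

open Cfsg Cfsg.Agent.Lib.Golay.Core Cfsg.Agent.Lib.Golay.Perm Cfsg.Agent.Lib.Golay.Chain
  Cfsg.Agent.Lib.Golay.M24 Cfsg.Agent.Lib.Golay.Basic Cfsg.Agent.Lib.Golay.Stab
  Cfsg.Agent.Lib.Golay.Dodecad Cfsg.Agent.Lib.M24Data.OctadPairs
open scoped Pointwise

/-- Force the evaluation of a number before passing it on. -/
def force (n : ℕ) (k : ℕ → Bool) : Bool := Nat.rec (k 0) (fun m _ => k (Nat.succ m)) n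

theorem force_eq (n : ℕ) (k : ℕ → Bool) : force n k = k n := by
  cases n <;> rfl

/-- The walk down the levels. -/
def treeAux (leaf : ℕ → Bool) (prune : List ℕ → ℕ → Bool) :
    List (ℕ × List ℕ) → List ℕ → ℕ → Bool
  | [], _, P => leaf P
  | (b, T) :: rest, F, P =>
    allL (fun t => force (comp P t) fun P' =>
      prune (b :: F) P' || treeAux leaf prune rest (b :: F) P') T

theorem treeAux_cons (leaf : ℕ → Bool) (prune : List ℕ → ℕ → Bool) (b : ℕ) (T : List ℕ)
    (rest : List (ℕ × List ℕ)) (F : List ℕ) (P : ℕ) :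
    treeAux leaf prune ((b, T) :: rest) F P = allL (fun t => force (comp P t) fun P' =>
      prune (b :: F) P' || treeAux leaf prune rest (b :: F) P') T := rfl

/-- A packed permutation in the group of the code. -/
def Good (P : ℕ) : Prop := validPerm P = true ∧ g P ∈ M24

theorem good_of_check {P : ℕ} (h : checkAut P = true) : Good P :=
  ⟨checkAut_valid h, g_mem_M24 h⟩

theorem Good.comp {P Q : ℕ} (hP : Good P) (hQ : Good Q) : Good (comp P Q) :=
  ⟨valid_comp hP.1 hQ.1, by rw [g_comp hP.1 hQ.1]; exact M24.mul_mem hP.2 hQ.2⟩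

/-- The level data. -/
def LevelsOK : List ℕ → List (ℕ × List ℕ) → Prop
  | F, [] => Fix F = ⊥
  | F, (b, T) :: rest =>
    b < 24 ∧ (∀ x ∈ F, x < 24) ∧ (∀ P ∈ T, checkAut P = true ∧ ∀ x ∈ F, img P x = x) ∧
      (∀ σ ∈ Fix F, idx (σ (pt b)) ∈ T.map (fun P => img P b)) ∧ LevelsOK (b :: F) rest

/-- The walk finds every element with the property. -/
theorem treeAux_sound {Φ : Equiv.Perm GolayPt → Prop} {leaf : ℕ → Bool} {prune : List ℕ → ℕ → Bool}
    (hprune : ∀ σ, Φ σ → ∀ F P, Good P → (∀ x ∈ F, σ (pt x) = pt (img P x)) → prune F P = false)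
    (levels : List (ℕ × List ℕ)) (F : List ℕ) (hlev : LevelsOK F levels) (P : ℕ) (hP : Good P)
    (hrun : treeAux leaf prune levels F P = true)
    (σ : Equiv.Perm GolayPt) (hσM : σ ∈ M24) (hσ : Φ σ) (hagree : ∀ x ∈ F, σ (pt x) = pt (img P x))
    (hF : ∀ x ∈ F, x < 24) :
    ∃ Q, Good Q ∧ leaf Q = true ∧ σ = g Q := by
  induction levels generalizing F P with
  | nil =>
    refine ⟨P, hP, hrun, ?_⟩
    have hmem : (g P)⁻¹ * σ ∈ Fix F := by
      refine ⟨M24.mul_mem (M24.inv_mem hP.2) hσM, fun x hx => ?_⟩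
      rw [Equiv.Perm.mul_apply, hagree x hx, Equiv.Perm.inv_eq_iff_eq, g_pt hP.1 (hF x hx)]
    have hlev' : Fix F = ⊥ := hlev
    rw [hlev', Subgroup.mem_bot] at hmem
    exact (inv_mul_eq_one.mp hmem).symm
  | cons hd rest ih =>
    obtain ⟨b, T⟩ := hd
    obtain ⟨hb, _, hT, hcov, hrest⟩ := hlev
    have hmem : (g P)⁻¹ * σ ∈ Fix F := by
      refine ⟨M24.mul_mem (M24.inv_mem hP.2) hσM, fun x hx => ?_⟩
      rw [Equiv.Perm.mul_apply, hagree x hx, Equiv.Perm.inv_eq_iff_eq, g_pt hP.1 (hF x hx)]
    obtain ⟨t, ht, hti⟩ := List.mem_map.mp (hcov _ hmem)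
    obtain ⟨ht1, ht2⟩ := hT t ht
    have hGt := good_of_check ht1
    have hP' := Good.comp hP hGt
    have hrun' := allL_iff.mp (by rw [treeAux_cons] at hrun; exact hrun) t ht
    rw [force_eq, Bool.or_eq_true] at hrun'
    have hagree' : ∀ x ∈ b :: F, σ (pt x) = pt (img (comp P t) x) := by
      intro x hx
      rcases List.mem_cons.mp hx with rfl | hx
      · rw [img_comp P t hb, hti, ← g_pt hP.1 (idx_lt _), pt_idx]
        simp
      · have hx24 := hF x hx
        rw [img_comp P t hx24, ht2 x hx, hagree x hx]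
    rcases hrun' with h1 | h1
    · rw [hprune σ hσ (b :: F) _ hP' hagree'] at h1
      exact absurd h1 (by simp)
    · refine ih (b :: F) hrest _ hP' h1 hagree' ?_
      intro x hx
      rcases List.mem_cons.mp hx with rfl | hx
      · exact hb
      · exact hF x hx

/-- The full chain of levels. -/
def chain : List (ℕ × List ℕ) :=
  [(23, T0), (0, T1), (1, T2), (2, T3), (3, T4), (5, T5), (4, T6)]

theorem tableOK_spec' {F T : List ℕ} (h : tableOK F T = true) :
    ∀ P ∈ T, checkAut P = true ∧ ∀ x ∈ F, img P x = x := tableOK_spec h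

theorem levels6 : LevelsOK [5, 3, 2, 1, 0, 23] [(4, T6)] := by
  refine ⟨by norm_num, by decide, tableOK_spec tableOK6, ?_, Fix_base⟩
  intro σ hσ
  have hσ' : σ ∈ Fix [3, 2, 1, 0, 23] :=
    ⟨hσ.1, fun x hx => hσ.2 x (List.mem_cons_of_mem _ hx)⟩
  have h1 : pt 4 ∉ setOf O0 := by
    rw [mem_setOf, idx_pt (by norm_num)]
    decide +kernel
  have h2 : σ (pt 4) ∉ setOf O0 := fun h => h1 ((mem_O0_iff hσ' (pt 4)).mp h)
  rw [mem_setOf] at h2
  have key : ∀ j < 24, O0.testBit j ≠ true → j ∈ T6.map (fun P => img P 4) := by decide +kernel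
  exact key _ (idx_lt _) h2

theorem levels5 : LevelsOK [3, 2, 1, 0, 23] [(5, T5), (4, T6)] := by
  refine ⟨by norm_num, by decide, tableOK_spec tableOK5, ?_, levels6⟩
  intro σ hσ
  have h1 : pt 5 ∈ setOf O0 := by
    rw [mem_setOf, idx_pt (by norm_num)]
    decide +kernel
  have h2 := (mem_O0_iff hσ (pt 5)).mpr h1
  rw [mem_setOf] at h2
  have key : ∀ j < 24, O0.testBit j = true → j ∈ [3, 2, 1, 0, 23] ∨
    j ∈ T5.map (fun P => img P 5) := by decide +kernel
  rcases key _ (idx_lt _) h2 with h3 | h3
  · exfalso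
    have h4 := hσ.2 _ h3
    rw [pt_idx] at h4
    have h5 := σ.injective h4
    rw [h5, idx_pt (by norm_num)] at h3
    revert h3
    decide
  · exact h3

theorem levels4 : LevelsOK [2, 1, 0, 23] [(3, T4), (5, T5), (4, T6)] :=
  ⟨by norm_num, by decide, tableOK_spec tableOK4,
    upper_of_cover (by norm_num) (by decide) (by decide) cover4, levels5⟩

theorem levels3 : LevelsOK [1, 0, 23] [(2, T3), (3, T4), (5, T5), (4, T6)] :=
  ⟨by norm_num, by decide, tableOK_spec tableOK3,
    upper_of_cover (by norm_num) (by decide) (by decide) cover3, levels4⟩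

theorem levels2 : LevelsOK [0, 23] [(1, T2), (2, T3), (3, T4), (5, T5), (4, T6)] :=
  ⟨by norm_num, by decide, tableOK_spec tableOK2,
    upper_of_cover (by norm_num) (by decide) (by decide) cover2, levels3⟩

theorem levels1 : LevelsOK [23] [(0, T1), (1, T2), (2, T3), (3, T4), (5, T5), (4, T6)] :=
  ⟨by norm_num, by decide, tableOK_spec tableOK1,
    upper_of_cover (by norm_num) (by decide) (by decide) cover1, levels2⟩

theorem levels0 : LevelsOK [] chain :=
  ⟨by norm_num, by decide, tableOK_spec tableOK0,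
    upper_of_cover (by norm_num) (by decide) (by decide) cover0, levels1⟩

/-- The identity as a packed permutation. -/
def idP : ℕ := 984818244535754528103549039458486304

theorem idP_check : checkAut idP = true := by decide +kernel

theorem good_idP : Good idP := good_of_check idP_check

/-! ## Packed permutations as group elements -/

theorem g_inj_of_canon {P Q : ℕ} (hP : validPerm P = true) (hQ : validPerm Q = true)
    (hgg : g P = g Q) {i : ℕ} (hi : i < 24) : img P i = img Q i := by
  have h := congrArg (fun f : Equiv.Perm GolayPt => f (pt i)) hgg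
  simp only [g_pt hP hi, g_pt hQ hi] at h
  exact pt_injOn (valid_img_lt hP hi) (valid_img_lt hQ hi) h

/-- Two packed permutations with the same values on `0..23` denote the same permutation. -/
theorem g_congr {P Q : ℕ} (hP : validPerm P = true) (hQ : validPerm Q = true)
    (h : ∀ i < 24, img P i = img Q i) : g P = g Q := by
  ext1 p
  rw [g_apply hP, g_apply hQ, h _ (idx_lt p)]

end Cfsg.Agent.Lib.M24Data.Tree
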