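import Cfsg.Agent.Lib.M24Data.Tree
import Cfsg.Agent.Lib.M24Data.UData
import Cfsg.Agent.Lib.GolayOct.Trio

/-!
# Enumerations of the octads, sextets and trios

`decO i`, `decS i`, `decT i` for `i` below `759`, `1771`, `3795`: injective enumerations of the
octads, sextets and trios, with Boolean criteria for the action of packed permutations.
-/

set_option autoImplicit false

namespace Cfsg.Agent.Lib.M24Data.Universe

open Cfsg Cfsg.Agent.Lib.Golay.Core Cfsg.Agent.Lib.Golay.Perm Cfsg.Agent.Lib.Golay.Chain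
  Cfsg.Agent.Lib.Golay.M24 Cfsg.Agent.Lib.Golay.Basic Cfsg.Agent.Lib.GolayOct.Sextet
  Cfsg.Agent.Lib.GolayOct.Trio Cfsg.Agent.Lib.GolayOct.Basic
  Cfsg.Agent.Lib.M24Data.OctadPairs Cfsg.Agent.Lib.M24Data.Tree Cfsg.Agent.Lib.M24Data.UData
open scoped Pointwise

/-! ## Fields of big numbers -/

/-- The `i`-th field of width `W`. -/
def nthW (A W i : ℕ) : ℕ :=
  Nat.land (Nat.shiftRight A (Nat.mul W i)) (Nat.sub (Nat.shiftLeft 1 W) 1)

theorem nthW_lt (A W i : ℕ) : nthW A W i < 2 ^ W := by
  have h : nthW A W i = (A >>> (W * i)) &&& (2 ^ W - 1) := by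
    show Nat.land _ _ = _
    congr 1
    show (1 <<< W) - 1 = _
    rw [Nat.one_shiftLeft]
  rw [h, Nat.and_two_pow_sub_one_eq_mod]
  exact Nat.mod_lt _ (by positivity)

/-! ## Group action on sextets and trios -/

theorem smul_union' (σ : Equiv.Perm GolayPt) (t u : Finset GolayPt) :
    (σ • t) ∪ (σ • u) = σ • (t ∪ u) := (Finset.smul_finset_union).symm

theorem smul_mem_sextets {σ : Equiv.Perm GolayPt} (hσ : σ ∈ M24)
    {S : Finset (Finset GolayPt)} (hS : S ∈ sextets) : σ • S ∈ sextets := by
  obtain ⟨h6, h4, hu⟩ := hS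
  refine ⟨by rw [Finset.card_smul_finset]; exact h6, ?_, ?_⟩
  · intro t ht
    obtain ⟨t', ht', rfl⟩ := Finset.mem_smul_finset.mp ht
    rw [Finset.card_smul_finset]
    exact h4 t' ht'
  · intro t ht u hu' hne
    obtain ⟨t', ht', rfl⟩ := Finset.mem_smul_finset.mp ht
    obtain ⟨u', hu'', rfl⟩ := Finset.mem_smul_finset.mp hu'
    have hne' : t' ≠ u' := fun h => hne (by rw [h])
    show σ • t' ∪ σ • u' ∈ octads
    rw [smul_union']
    exact smul_mem_octads hσ (hu t' ht' u' hu'' hne')

theorem smul_mem_trios {σ : Equiv.Perm GolayPt} (hσ : σ ∈ M24)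
    {T : Finset (Finset GolayPt)} (hT : T ∈ trios) : σ • T ∈ trios := by
  obtain ⟨h3, ho, hd⟩ := hT
  refine ⟨by rw [Finset.card_smul_finset]; exact h3, ?_, ?_⟩
  · intro t ht
    obtain ⟨t', ht', rfl⟩ := Finset.mem_smul_finset.mp ht
    exact smul_mem_octads hσ (ho t' ht')
  · intro t ht u hu' hne
    obtain ⟨t', ht', rfl⟩ := Finset.mem_smul_finset.mp ht
    obtain ⟨u', hu'', rfl⟩ := Finset.mem_smul_finset.mp hu'
    have hne' : t' ≠ u' := fun h => hne (by rw [h])
    exact (disjoint_smul_iff σ t' u').mpr (hd t' ht' u' hu'' hne')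

theorem smul_sext {σ : Equiv.Perm GolayPt} (hσ : σ ∈ M24) {t : Finset GolayPt} (ht : t.card = 4) :
    σ • sext t = sext (σ • t) :=
  eq_sext (smul_mem_sextets hσ (sext_mem ht))
    (Finset.smul_mem_smul_finset (self_mem_sext t))

theorem sext_eq_of_isCode {a b : ℕ} (pa : pop a = 4) (pb : pop b = 4)
    (h : isCode (a ^^^ b) = true) : sext (setOf a) = sext (setOf b) := by
  by_cases hab : a = b
  · rw [hab]
  obtain ⟨m, hm, hc⟩ := isCode_iff.mp h
  have hxne : a ^^^ b ≠ 0 := fun h0 => hab (Nat.xor_eq_zero_iff.mp h0)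
  have hm0 : m ≠ 0 := by
    rintro rfl
    rw [code_zero] at hc
    exact hxne hc
  have h8 := code_min_weight m hm hm0
  rw [← hc] at h8
  have hcard := card_symmDiff_eq (setOf a) (setOf b)
  rw [← setOf_xor, card_setOf, card_setOf, card_setOf, pa, pb] at hcard
  have h0 : (setOf a ∩ setOf b).card = 0 := by omega
  have hd : Disjoint (setOf a) (setOf b) :=
    Finset.disjoint_iff_inter_eq_empty.mpr (Finset.card_eq_zero.mp h0)
  have hp8 : pop (a ^^^ b) = 8 := by omega
  have hun : setOf a ∪ setOf b = setOf (a ^^^ b) := by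
    rw [setOf_xor]
    exact hd.symmDiff_eq_sup.symm
  have hoct : setOf a ∪ setOf b ∈ octads := by
    rw [hun, hc]
    exact mem_octads_iff.mpr ⟨m, hm, by rw [← hc]; exact hp8, rfl⟩
  have hcA : (setOf a).card = 4 := by rw [card_setOf, pa]
  have hcB : (setOf b).card = 4 := by rw [card_setOf, pb]
  have hmem : setOf b ∈ sext (setOf a) := by
    apply Finset.mem_insert_of_mem
    apply Finset.mem_image.mpr
    refine ⟨setOf a ∪ setOf b, mem_Ot.mpr ⟨hoct, Finset.subset_union_left⟩, ?_⟩
    exact Finset.union_sdiff_cancel_left hd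
  exact eq_sext (sext_mem hcA) hmem

theorem smul_compl' (σ : Equiv.Perm GolayPt) (s : Finset GolayPt) : σ • sᶜ = (σ • s)ᶜ := by
  ext p
  rw [Finset.mem_compl, Finset.mem_smul_finset, Finset.mem_smul_finset]
  constructor
  · rintro ⟨q, hq, rfl⟩ ⟨r, hr, hrq⟩
    have : r = q := σ.injective hrq
    rw [this] at hr
    exact (Finset.mem_compl.mp hq) hr
  · intro h
    refine ⟨σ⁻¹ p, Finset.mem_compl.mpr fun hc => h ⟨_, hc, by simp⟩, by simp⟩

theorem smul_tf (σ : Equiv.Perm GolayPt) (x y : Finset GolayPt) :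
    σ • tf (x, y) = tf (σ • x, σ • y) := by
  unfold tf
  simp only [Finset.smul_finset_insert, Finset.smul_finset_singleton]
  rw [smul_compl', smul_union']

/-! ## Families of masks -/

/-- The family of sets with the given masks. -/
def famOf (L : List ℕ) : Finset (Finset GolayPt) := (L.map Cfsg.Agent.Lib.Golay.Core.setOf).toFinset

theorem mem_famOf {L : List ℕ} {s : Finset GolayPt} : s ∈ famOf L ↔ ∃ a ∈ L, setOf a = s := by
  simp [famOf]

theorem smul_famOf {P : ℕ} (hP : validPerm P = true) (L : List ℕ) :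
    g P • famOf L = famOf (L.map (mapMask P)) := by
  ext s
  rw [Finset.mem_smul_finset, mem_famOf]
  constructor
  · rintro ⟨t, ht, rfl⟩
    obtain ⟨a, ha, rfl⟩ := mem_famOf.mp ht
    exact ⟨mapMask P a, List.mem_map_of_mem ha, (smul_setOf hP a).symm⟩
  · rintro ⟨b, hb, rfl⟩
    obtain ⟨a, ha, rfl⟩ := List.mem_map.mp hb
    exact ⟨setOf a, mem_famOf.mpr ⟨a, ha, rfl⟩, smul_setOf hP a⟩

/-- A Boolean version of pairwise relations. -/
def pairB (r : ℕ → ℕ → Bool) (L : List ℕ) : Bool :=
  List.rec true (fun a t ih => cond (allL (r a) t) ih false) L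

theorem pairB_cons (r : ℕ → ℕ → Bool) (a : ℕ) (t : List ℕ) :
    pairB r (a :: t) = cond (allL (r a) t) (pairB r t) false := rfl

theorem pairB_spec {r : ℕ → ℕ → Bool} {L : List ℕ} (h : pairB r L = true) :
    L.Pairwise fun a b => r a b = true := by
  induction L with
  | nil => exact List.Pairwise.nil
  | cons a t ih =>
    rw [pairB_cons] at h
    cases h1 : allL (r a) t with
    | false => rw [h1] at h; exact absurd h (by simp)
    | true =>
      rw [h1] at h
      exact List.Pairwise.cons (fun b hb => allL_iff.mp h1 b hb) (ih h)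

/-- The relation between the tetrads of a sextet. -/
def rS (a b : ℕ) : Bool := disj a b && isCode (a ||| b)

theorem rS_symm (a b : ℕ) : rS a b = rS b a := by
  simp only [rS, disj]
  rw [show Nat.land a b = a &&& b from rfl, show Nat.land b a = b &&& a from rfl, Nat.and_comm,
    Nat.or_comm]

theorem pw_forall {r : ℕ → ℕ → Bool} (hs : ∀ a b, r a b = r b a) {L : List ℕ}
    (h : L.Pairwise fun a b => r a b = true) {a b : ℕ} (ha : a ∈ L) (hb : b ∈ L) (hab : a ≠ b) :
    r a b = true := by
  induction L with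
  | nil => simp at ha
  | cons c t ih =>
    obtain ⟨h2, h3⟩ := List.pairwise_cons.mp h
    rcases List.mem_cons.mp ha with rfl | ha'
    · rcases List.mem_cons.mp hb with rfl | hb'
      · exact absurd rfl hab
      · exact h2 b hb'
    · rcases List.mem_cons.mp hb with rfl | hb'
      · rw [hs]; exact h2 a ha'
      · exact ih h3 ha' hb'

theorem nodup_masks {L : List ℕ} (hlt : ∀ a ∈ L, a < 2 ^ 24) (hL : L.Nodup) : (L.map Cfsg.Agent.Lib.Golay.Core.setOf).Nodup := by
  apply hL.map_on
  intro a ha b hb h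
  exact eq_of_setOf_eq (hlt a ha) (hlt b hb) h

theorem nodup_of_pairB {L : List ℕ} {r : ℕ → ℕ → Bool} (hr : ∀ a ∈ L, r a a = false)
    (h : pairB r L = true) : L.Nodup := by
  have h1 := pairB_spec h
  induction L with
  | nil => exact List.nodup_nil
  | cons a t ih =>
    obtain ⟨h2, h3⟩ := List.pairwise_cons.mp h1
    rw [pairB_cons] at h
    cases h4 : allL (r a) t with
    | false => rw [h4] at h; exact absurd h (by simp)
    | true =>
      rw [h4] at h
      refine List.nodup_cons.mpr ⟨fun hmem => ?_, ih (fun b hb => hr b (List.mem_cons_of_mem _ hb)) h h3⟩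
      have := h2 a hmem
      rw [hr a List.mem_cons_self] at this
      exact absurd this (by simp)

/-- A family of six tetrads with the right relations is a sextet. -/
theorem famOf_mem_sextets {L : List ℕ} (hlen : L.length = 6) (hpop : ∀ a ∈ L, pop a = 4)
    (hlt : ∀ a ∈ L, a < 2 ^ 24) (hpw : pairB rS L = true) : famOf L ∈ sextets := by
  have hnd : L.Nodup := by
    apply nodup_of_pairB (r := rS) _ hpw
    intro a ha
    cases h : rS a a with
    | false => rfl
    | true =>
      simp only [rS, Bool.and_eq_true] at h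
      have h0 := disj_iff.mp h.1
      rw [Nat.and_self] at h0
      have := hpop a ha
      rw [h0] at this
      exact absurd this (by decide)
  refine ⟨?_, ?_, ?_⟩
  · unfold famOf
    rw [List.toFinset_card_of_nodup (nodup_masks hlt hnd), List.length_map, hlen]
  · intro t ht
    obtain ⟨a, ha, rfl⟩ := mem_famOf.mp ht
    rw [card_setOf, hpop a ha]
  · intro t ht u hu hne
    obtain ⟨a, ha, rfl⟩ := mem_famOf.mp ht
    obtain ⟨b, hb, rfl⟩ := mem_famOf.mp hu
    have hab : a ≠ b := fun h => hne (by rw [h])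
    have h1 := pw_forall rS_symm (pairB_spec hpw) ha hb hab
    simp only [rS, Bool.and_eq_true] at h1
    rw [← setOf_union]
    have hlt2 : a ||| b < 2 ^ 24 := Nat.or_lt_two_pow (hlt a ha) (hlt b hb)
    apply (setOf_mem_octads_iff hlt2).mpr
    refine ⟨h1.2, ?_⟩
    have hd := disjoint_setOf_of h1.1
    rw [← card_setOf, setOf_union, Finset.card_union_of_disjoint hd, card_setOf, card_setOf,
      hpop a ha, hpop b hb]

/-- The relation between the octads of a trio. -/
def rT (a b : ℕ) : Bool := disj a b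

theorem rT_symm (a b : ℕ) : rT a b = rT b a := by
  simp only [rT, disj]
  rw [show Nat.land a b = a &&& b from rfl, show Nat.land b a = b &&& a from rfl, Nat.and_comm]

/-- A family of three octads with the right relations is a trio. -/
theorem famOf_mem_trios {L : List ℕ} (hlen : L.length = 3) (hoct : ∀ a ∈ L, isCode a = true ∧ pop a = 8)
    (hlt : ∀ a ∈ L, a < 2 ^ 24) (hpw : pairB rT L = true) : famOf L ∈ trios := by
  have hnd : L.Nodup := by
    apply nodup_of_pairB (r := rT) _ hpw
    intro a ha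
    cases h : rT a a with
    | false => rfl
    | true =>
      simp only [rT] at h
      have h0 := disj_iff.mp h
      rw [Nat.and_self] at h0
      have := (hoct a ha).2
      rw [h0] at this
      exact absurd this (by decide)
  refine ⟨?_, ?_, ?_⟩
  · unfold famOf
    rw [List.toFinset_card_of_nodup (nodup_masks hlt hnd), List.length_map, hlen]
  · intro t ht
    obtain ⟨a, ha, rfl⟩ := mem_famOf.mp ht
    exact (setOf_mem_octads_iff (hlt a ha)).mpr (hoct a ha)
  · intro t ht u hu hne
    obtain ⟨a, ha, rfl⟩ := mem_famOf.mp ht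
    obtain ⟨b, hb, rfl⟩ := mem_famOf.mp hu
    have hab : a ≠ b := fun h => hne (by rw [h])
    exact disjoint_setOf_of (pw_forall rT_symm (pairB_spec hpw) ha hb hab)

/-! ## Enumerations -/

/-- The `i`-th octad as a mask. -/
def octAt (i : ℕ) : ℕ := nthW octA 24 i

/-- The enumeration of the octads. -/
def decO (i : ℕ) : Finset GolayPt := setOf (octAt i)

/-- The `j`-th tetrad of the `i`-th sextet. -/
def sexAt (i j : ℕ) : ℕ := nthW (nthW sexA 144 i) 24 j

/-- The six tetrads of the `i`-th sextet. -/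
def sexL (i : ℕ) : List ℕ := [sexAt i 0, sexAt i 1, sexAt i 2, sexAt i 3, sexAt i 4, sexAt i 5]

/-- The enumeration of the sextets. -/
def decS (i : ℕ) : Finset (Finset GolayPt) := famOf (sexL i)

/-- The `j`-th octad of the `i`-th trio. -/
def triAt (i j : ℕ) : ℕ := nthW (nthW triA 72 i) 24 j

/-- The three octads of the `i`-th trio. -/
def triL (i : ℕ) : List ℕ := [triAt i 0, triAt i 1, triAt i 2]

/-- The enumeration of the trios. -/
def decT (i : ℕ) : Finset (Finset GolayPt) := famOf (triL i)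

theorem oct_check : allUpTo (fun i => isCode (octAt i) && Nat.beq (pop (octAt i)) 8 &&
    Nat.blt (octAt i) (octAt (Nat.succ i)) || Nat.beq i 758) 759 = true := by
  decide +kernel

theorem oct_last : isCode (octAt 758) = true ∧ pop (octAt 758) = 8 := by
  decide +kernel

theorem sex_check : allUpTo (fun i => allL (fun a => Nat.beq (pop a) 4) (sexL i) && pairB rS (sexL i) &&
    Nat.beq (bit (sexAt i 0) 0) 1 &&
    (Nat.blt (sexAt i 0) (sexAt (Nat.succ i) 0) || Nat.beq i 1770)) 1771 = true := by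
  decide +kernel

theorem tri_check : allUpTo (fun i => allL (fun a => isCode a && Nat.beq (pop a) 8) (triL i) &&
    pairB rT (triL i) && Nat.beq (bit (triAt i 0) 0) 1 && Nat.blt (triAt i 1) (triAt i 2) &&
    (Nat.blt (16777216 * triAt i 0 + triAt i 1) (16777216 * triAt (Nat.succ i) 0 + triAt (Nat.succ i) 1)
      || Nat.beq i 3794)) 3795 = true := by
  decide +kernel

/-! ### Octads -/

theorem octAt_lt (i : ℕ) : octAt i < 2 ^ 24 := nthW_lt _ _ _
theorem sexAt_lt (i j : ℕ) : sexAt i j < 2 ^ 24 := nthW_lt _ _ _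
theorem triAt_lt (i j : ℕ) : triAt i j < 2 ^ 24 := nthW_lt _ _ _

theorem oct_spec {i : ℕ} (hi : i < 759) : isCode (octAt i) = true ∧ pop (octAt i) = 8 := by
  have h := allUpTo_iff.mp oct_check i hi
  simp only [Bool.or_eq_true, Bool.and_eq_true] at h
  rcases h with ⟨⟨h1, h2⟩, -⟩ | h
  · exact ⟨h1, Nat.eq_of_beq_eq_true h2⟩
  · rw [Nat.eq_of_beq_eq_true h]
    exact oct_last

theorem oct_mono {i : ℕ} (hi : i < 758) : octAt i < octAt (i + 1) := by
  have h := allUpTo_iff.mp oct_check i (by omega)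
  simp only [Bool.or_eq_true, Bool.and_eq_true] at h
  rcases h with ⟨-, h⟩ | h
  · exact Nat.le_of_ble_eq_true h
  · have := Nat.eq_of_beq_eq_true h
    omega

/-- A strictly monotone enumeration on an initial segment is injective. -/
theorem injOn_of_mono {f : ℕ → ℕ} {n : ℕ} (h : ∀ i, i + 1 < n → f i < f (i + 1)) :
    Set.InjOn f {i | i < n} := by
  have hlt : ∀ i j, i < j → j < n → f i < f j := by
    intro i j hij hj
    induction j with
    | zero => omega
    | succ j ih =>
      rcases Nat.lt_succ_iff_lt_or_eq.mp hij with h1 | h1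
      · exact lt_trans (ih h1 (by omega)) (h j hj)
      · rw [h1]
        exact h j hj
  intro i hi j hj hij
  rcases Nat.lt_trichotomy i j with h1 | h1 | h1
  · exact absurd hij (ne_of_lt (hlt i j h1 hj))
  · exact h1
  · exact absurd hij.symm (ne_of_lt (hlt j i h1 hi))

/-- An injective family of the right length exhausts a finite set. -/
theorem eq_image_of_card {Y : Type*} {F : Set Y} (hfin : F.Finite) (dec : ℕ → Y) (n : ℕ)
    (hmem : ∀ i < n, dec i ∈ F) (hinj : Set.InjOn dec {i | i < n}) (hcard : F.ncard = n) :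
    F = dec '' {i | i < n} := by
  have hrange : {i : ℕ | i < n} = (↑(Finset.range n) : Set ℕ) := by
    ext i
    simp
  symm
  apply Set.eq_of_subset_of_ncard_le
  · rintro _ ⟨i, hi, rfl⟩
    exact hmem i hi
  · rw [Set.InjOn.ncard_image hinj, hrange, Set.ncard_coe_finset, Finset.card_range, hcard]
  · exact hfin

theorem decO_mem {i : ℕ} (hi : i < 759) : decO i ∈ octads :=
  (setOf_mem_octads_iff (octAt_lt i)).mpr (oct_spec hi)

theorem decO_injOn : Set.InjOn decO {i | i < 759} := by
  intro i hi j hj h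
  have h1 := eq_of_setOf_eq (octAt_lt i) (octAt_lt j) h
  exact injOn_of_mono (f := octAt) (n := 759) (fun k hk => oct_mono (by omega)) hi hj h1

theorem octads_eq : octads = decO '' {i | i < 759} :=
  eq_image_of_card (Set.toFinite _) decO 759 (fun _ hi => decO_mem hi) decO_injOn ncard_octads

/-! ### Sextets -/

theorem sex_spec {i : ℕ} (hi : i < 1771) : (∀ a ∈ sexL i, pop a = 4) ∧ pairB rS (sexL i) = true ∧
    bit (sexAt i 0) 0 = 1 := by
  have h := allUpTo_iff.mp sex_check i hi
  simp only [Bool.and_eq_true, Bool.or_eq_true] at h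
  obtain ⟨⟨⟨h1, h2⟩, h3⟩, -⟩ := h
  exact ⟨fun a ha => Nat.eq_of_beq_eq_true (allL_iff.mp h1 a ha), h2, Nat.eq_of_beq_eq_true h3⟩

theorem sex_mono {i : ℕ} (hi : i < 1770) : sexAt i 0 < sexAt (i + 1) 0 := by
  have h := allUpTo_iff.mp sex_check i (by omega)
  simp only [Bool.and_eq_true, Bool.or_eq_true] at h
  obtain ⟨-, h | h⟩ := h
  · exact Nat.le_of_ble_eq_true h
  · have := Nat.eq_of_beq_eq_true h
    omega

theorem sexL_lt (i : ℕ) : ∀ a ∈ sexL i, a < 2 ^ 24 := by
  intro a ha
  simp only [sexL, List.mem_cons, List.not_mem_nil, or_false] at ha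
  rcases ha with rfl | rfl | rfl | rfl | rfl | rfl <;> exact sexAt_lt _ _

theorem decS_mem {i : ℕ} (hi : i < 1771) : decS i ∈ sextets := by
  obtain ⟨h1, h2, -⟩ := sex_spec hi
  exact famOf_mem_sextets rfl h1 (sexL_lt i) h2

theorem head_mem_sexL (i : ℕ) : sexAt i 0 ∈ sexL i := List.mem_cons_self

theorem pop_head {i : ℕ} (hi : i < 1771) : pop (sexAt i 0) = 4 :=
  (sex_spec hi).1 _ (head_mem_sexL i)

theorem decS_eq {i : ℕ} (hi : i < 1771) : decS i = sext (setOf (sexAt i 0)) :=
  eq_sext (decS_mem hi) (mem_famOf.mpr ⟨_, head_mem_sexL i, rfl⟩)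

theorem card_head {i : ℕ} (hi : i < 1771) : (setOf (sexAt i 0)).card = 4 := by
  rw [card_setOf, pop_head hi]

theorem isCode_of_sext_eq {a b : ℕ} (ha : a < 2 ^ 24) (hb : b < 2 ^ 24)
    (h : sext (setOf a) = sext (setOf b)) : isCode (a ^^^ b) = true := by
  have hmem : setOf b ∈ sext (setOf a) := by
    rw [h]
    exact self_mem_sext _
  rcases Finset.mem_insert.mp hmem with h1 | h1
  · have := eq_of_setOf_eq hb ha h1
    rw [this, Nat.xor_self]
    have h0 : isCode (code 0) = true := isCode_code (by norm_num)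
    rwa [code_zero] at h0
  · obtain ⟨o, ho, ho'⟩ := Finset.mem_image.mp h1
    obtain ⟨ho1, ho2⟩ := mem_Ot.mp ho
    have hd : Disjoint (setOf a) (setOf b) := by
      rw [← ho']
      exact Finset.disjoint_sdiff
    have hun : setOf (a ^^^ b) = o := by
      rw [setOf_xor, hd.symmDiff_eq_sup, ← ho']
      exact Finset.union_sdiff_of_subset ho2
    have hlt : a ^^^ b < 2 ^ 24 := Nat.xor_lt_two_pow ha hb
    rw [← hun] at ho1
    exact ((setOf_mem_octads_iff hlt).mp ho1).1

/-- The criterion for the action on sextets. -/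
def relS (P p c : ℕ) : Bool := isCode (mapMask P (sexAt p 0) ^^^ sexAt c 0)

theorem pop_mapMask {P : ℕ} (hP : validPerm P = true) (n : ℕ) : pop (mapMask P n) = pop n := by
  rw [← card_setOf, ← smul_setOf hP, Finset.card_smul_finset, card_setOf]

theorem relS_iff {P p c : ℕ} (hP : Good P) (hp : p < 1771) (hc : c < 1771) :
    relS P p c = true ↔ g P • decS p = decS c := by
  rw [decS_eq hp, decS_eq hc, smul_sext hP.2 (card_head hp), smul_setOf hP.1, relS]
  have hpop : pop (mapMask P (sexAt p 0)) = 4 := by rw [pop_mapMask hP.1, pop_head hp]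
  constructor
  · intro h
    exact sext_eq_of_isCode hpop (pop_head hc) h
  · intro h
    exact isCode_of_sext_eq (mapMask_lt hP.1 _) (sexAt_lt _ _) h

theorem decS_injOn : Set.InjOn decS {i | i < 1771} := by
  intro i hi j hj h
  have hi' : i < 1771 := hi
  have hj' : j < 1771 := hj
  rw [decS_eq hi', decS_eq hj'] at h
  have hmem : setOf (sexAt j 0) ∈ sext (setOf (sexAt i 0)) := by
    rw [h]
    exact self_mem_sext _
  have hsame : sexAt i 0 = sexAt j 0 := by
    rcases Finset.mem_insert.mp hmem with h1 | h1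
    · exact (eq_of_setOf_eq (sexAt_lt _ _) (sexAt_lt _ _) h1).symm
    · exfalso
      obtain ⟨o, -, ho'⟩ := Finset.mem_image.mp h1
      have h2 : pt 0 ∈ setOf (sexAt j 0) := by
        rw [mem_setOf, idx_pt (by norm_num), ← bit_eq_one_iff]
        exact (sex_spec hj').2.2
      have h3 : pt 0 ∈ setOf (sexAt i 0) := by
        rw [mem_setOf, idx_pt (by norm_num), ← bit_eq_one_iff]
        exact (sex_spec hi').2.2
      rw [← ho'] at h2
      exact (Finset.mem_sdiff.mp h2).2 h3
  exact injOn_of_mono (f := fun k => sexAt k 0) (n := 1771) (fun k hk => sex_mono (by omega)) hi hj hsame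

theorem sextets_eq : sextets = decS '' {i | i < 1771} := by
  apply eq_image_of_card (Set.toFinite _) decS 1771 (fun _ hi => decS_mem hi) decS_injOn
  rw [← coe_sextetsF, Set.ncard_coe_finset, sextetsF_card]

/-! ### Trios -/

theorem tri_spec {i : ℕ} (hi : i < 3795) : (∀ a ∈ triL i, isCode a = true ∧ pop a = 8) ∧
    pairB rT (triL i) = true ∧ bit (triAt i 0) 0 = 1 ∧ triAt i 1 < triAt i 2 := by
  have h := allUpTo_iff.mp tri_check i hi
  simp only [Bool.and_eq_true, Bool.or_eq_true] at h
  obtain ⟨⟨⟨⟨h1, h2⟩, h3⟩, h4⟩, -⟩ := h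
  refine ⟨fun a ha => ?_, h2, Nat.eq_of_beq_eq_true h3, Nat.le_of_ble_eq_true h4⟩
  have := allL_iff.mp h1 a ha
  simp only [Bool.and_eq_true] at this
  exact ⟨this.1, Nat.eq_of_beq_eq_true this.2⟩

/-- The key of a trio. -/
def triKey (i : ℕ) : ℕ := 16777216 * triAt i 0 + triAt i 1

theorem tri_mono {i : ℕ} (hi : i < 3794) : triKey i < triKey (i + 1) := by
  have h := allUpTo_iff.mp tri_check i (by omega)
  simp only [Bool.and_eq_true, Bool.or_eq_true] at h
  obtain ⟨-, h | h⟩ := h
  · exact Nat.le_of_ble_eq_true h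
  · have := Nat.eq_of_beq_eq_true h
    omega

theorem triL_lt (i : ℕ) : ∀ a ∈ triL i, a < 2 ^ 24 := by
  intro a ha
  simp only [triL, List.mem_cons, List.not_mem_nil, or_false] at ha
  rcases ha with rfl | rfl | rfl <;> exact triAt_lt _ _

theorem decT_mem {i : ℕ} (hi : i < 3795) : decT i ∈ trios :=
  famOf_mem_trios rfl (tri_spec hi).1 (triL_lt i) (tri_spec hi).2.1

/-- The criterion for the action on trios. -/
def relT (P p c : ℕ) : Bool :=
  anyL (Nat.beq (mapMask P (triAt p 0))) (triL c) && anyL (Nat.beq (mapMask P (triAt p 1))) (triL c)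

theorem mem_of_anyL_beq {x : ℕ} {L : List ℕ} (h : anyL (Nat.beq x) L = true) : x ∈ L := by
  obtain ⟨y, hy, hxy⟩ := anyL_iff.mp h
  rw [Nat.eq_of_beq_eq_true hxy]
  exact hy

theorem anyL_beq_of_mem {x : ℕ} {L : List ℕ} (h : x ∈ L) : anyL (Nat.beq x) L = true :=
  anyL_iff.mpr ⟨x, h, Nat.beq_refl x⟩

theorem tri_ne {i : ℕ} (hi : i < 3795) : triAt i 0 ≠ triAt i 1 := by
  intro h
  have h1 := (tri_spec hi).2.1
  simp only [triL] at h1
  rw [pairB_cons] at h1
  cases h2 : allL (rT (triAt i 0)) [triAt i 1, triAt i 2] with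
  | false => rw [h2] at h1; exact absurd h1 (by simp)
  | true =>
    have h3 := allL_iff.mp h2 (triAt i 1) List.mem_cons_self
    rw [← h] at h3
    have h0 := disj_iff.mp h3
    rw [Nat.and_self] at h0
    have h4 := ((tri_spec hi).1 (triAt i 0) List.mem_cons_self).2
    rw [h0] at h4
    exact absurd h4 (by decide)

theorem tri_ne2 {i : ℕ} (hi : i < 3795) : triAt i 0 ≠ triAt i 2 := by
  intro h
  have h1 := (tri_spec hi).2.1
  simp only [triL] at h1
  rw [pairB_cons] at h1
  cases h2 : allL (rT (triAt i 0)) [triAt i 1, triAt i 2] with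
  | false => rw [h2] at h1; exact absurd h1 (by simp)
  | true =>
    have h3 := allL_iff.mp h2 (triAt i 2) (List.mem_cons_of_mem _ List.mem_cons_self)
    rw [← h] at h3
    have h0 := disj_iff.mp h3
    rw [Nat.and_self] at h0
    have h4 := ((tri_spec hi).1 (triAt i 0) List.mem_cons_self).2
    rw [h0] at h4
    exact absurd h4 (by decide)

theorem relT_iff {P p c : ℕ} (hP : Good P) (hp : p < 3795) (hc : c < 3795) :
    relT P p c = true ↔ g P • decT p = decT c := by
  have h0 : triAt p 0 ∈ triL p := List.mem_cons_self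
  have h1 : triAt p 1 ∈ triL p := List.mem_cons_of_mem _ List.mem_cons_self
  simp only [relT, Bool.and_eq_true]
  constructor
  · rintro ⟨ha, hb⟩
    have ha' := mem_of_anyL_beq ha
    have hb' := mem_of_anyL_beq hb
    set x := setOf (mapMask P (triAt p 0)) with hx
    set y := setOf (mapMask P (triAt p 1)) with hy
    have hxy : x ≠ y := by
      intro h
      rw [hx, hy, ← smul_setOf hP.1, ← smul_setOf hP.1] at h
      have h2 := smul_left_cancel _ h
      exact tri_ne hp (eq_of_setOf_eq (triAt_lt _ _) (triAt_lt _ _) h2)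
    have hT1 : g P • decT p ∈ trios := smul_mem_trios hP.2 (decT_mem hp)
    have hm1 : x ∈ g P • decT p := by
      rw [hx, ← smul_setOf hP.1]
      exact Finset.smul_mem_smul_finset (mem_famOf.mpr ⟨_, h0, rfl⟩)
    have hm2 : y ∈ g P • decT p := by
      rw [hy, ← smul_setOf hP.1]
      exact Finset.smul_mem_smul_finset (mem_famOf.mpr ⟨_, h1, rfl⟩)
    rw [eq_tf hT1 hm1 hm2 hxy,
      eq_tf (decT_mem hc) (mem_famOf.mpr ⟨_, ha', rfl⟩) (mem_famOf.mpr ⟨_, hb', rfl⟩) hxy]
  · intro h
    have key : ∀ a ∈ triL p, anyL (Nat.beq (mapMask P a)) (triL c) = true := by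
      intro a ha
      have h2 : setOf (mapMask P a) ∈ decT c := by
        rw [← h, ← smul_setOf hP.1]
        exact Finset.smul_mem_smul_finset (mem_famOf.mpr ⟨_, ha, rfl⟩)
      obtain ⟨b, hb, hb'⟩ := mem_famOf.mp h2
      have := eq_of_setOf_eq (triL_lt c b hb) (mapMask_lt hP.1 _) hb'
      rw [← this]
      exact anyL_beq_of_mem hb
    exact ⟨key _ h0, key _ h1⟩

theorem tri_disj {i : ℕ} (hi : i < 3795) {a b : ℕ} (ha : a ∈ triL i) (hb : b ∈ triL i) (hab : a ≠ b) :
    rT a b = true := pw_forall rT_symm (pairB_spec (tri_spec hi).2.1) ha hb hab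

theorem decT_injOn : Set.InjOn decT {i | i < 3795} := by
  intro i hi j hj h
  have hi' : i < 3795 := hi
  have hj' : j < 3795 := hj
  have hsub : ∀ {i j : ℕ}, decT i = decT j → ∀ a ∈ triL i, a ∈ triL j := by
    intro i j h a ha
    have h2 : setOf a ∈ decT j := by
      rw [← h]
      exact mem_famOf.mpr ⟨a, ha, rfl⟩
    obtain ⟨b, hb, hb'⟩ := mem_famOf.mp h2
    have h3 : b < 2 ^ 24 := by
      unfold triL at hb
      simp only [List.mem_cons, List.not_mem_nil, or_false] at hb
      rcases hb with rfl | rfl | rfl <;> exact triAt_lt _ _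
    have h4 : a < 2 ^ 24 := by
      unfold triL at ha
      simp only [List.mem_cons, List.not_mem_nil, or_false] at ha
      rcases ha with rfl | rfl | rfl <;> exact triAt_lt _ _
    rw [← eq_of_setOf_eq h3 h4 hb']
    exact hb
  -- the octad through the point `0`
  have hhead : ∀ {i j : ℕ}, i < 3795 → j < 3795 → ∀ a ∈ triL i, a ∈ triL j → bit a 0 = 1 → a = triAt j 0 := by
    intro i j hi hj a ha ha' hb
    by_contra hne
    have h1 := tri_disj hj ha' (List.mem_cons_self) hne
    have h2 : a &&& triAt j 0 = 0 := disj_iff.mp h1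
    have h3 : (a &&& triAt j 0).testBit 0 = true := by
      rw [Nat.testBit_and, bit_eq_one_iff.mp hb, bit_eq_one_iff.mp (tri_spec hj).2.2.1]
      rfl
    rw [h2] at h3
    exact absurd h3 (by simp)
  have e0 : triAt i 0 = triAt j 0 := hhead hi' hj' _ List.mem_cons_self
    (hsub h _ List.mem_cons_self) (tri_spec hi').2.2.1
  -- the other two members
  have hb1 : triAt i 1 ∈ triL j := hsub h _ (List.mem_cons_of_mem _ List.mem_cons_self)
  have hc1 : triAt i 2 ∈ triL j := hsub h _ (List.mem_cons_of_mem _ (List.mem_cons_of_mem _ List.mem_cons_self))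
  have hb2 : triAt j 1 ∈ triL i := hsub h.symm _ (List.mem_cons_of_mem _ List.mem_cons_self)
  have hc2 : triAt j 2 ∈ triL i := hsub h.symm _ (List.mem_cons_of_mem _ (List.mem_cons_of_mem _ List.mem_cons_self))
  have hne1 := tri_ne hi'
  have hne2 := tri_ne hj'
  have hlt1 := (tri_spec hi').2.2.2
  have hlt2 := (tri_spec hj').2.2.2
  have hne3 := tri_ne2 hi'
  have hne4 := tri_ne2 hj'
  simp only [triL, List.mem_cons, List.not_mem_nil, or_false] at hb1 hc1 hb2 hc2
  have hkey : triKey i = triKey j := by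
    unfold triKey
    have e1 : triAt i 1 = triAt j 1 := by omega
    rw [e0, e1]
  exact injOn_of_mono (f := triKey) (n := 3795) (fun k hk => tri_mono (by omega)) hi hj hkey

theorem trios_eq : trios = decT '' {i | i < 3795} :=
  eq_image_of_card (Set.toFinite _) decT 3795 (fun _ hi => decT_mem hi) decT_injOn trios_ncard

/-- The criterion for the action on octads. -/
def relO (P p c : ℕ) : Bool := Nat.beq (mapMask P (octAt p)) (octAt c)

theorem relO_iff {P p c : ℕ} (hP : Good P) :
    relO P p c = true ↔ g P • decO p = decO c := by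
  rw [relO, decO, decO, smul_setOf hP.1, setOf_injOn (mapMask_lt hP.1 _) (octAt_lt _)]
  exact ⟨Nat.eq_of_beq_eq_true, fun h => by rw [h]; exact Nat.beq_refl _⟩

/-! ## Counting with a Boolean criterion -/

theorem ncard_sep {Y : Type*} (F : Set Y) (dec : ℕ → Y) (n : ℕ) (hF : F = dec '' {i | i < n})
    (hinj : Set.InjOn dec {i | i < n}) (p : Y → Prop) (b : ℕ → Bool)
    (hb : ∀ i < n, p (dec i) ↔ b i = true) :
    {y | y ∈ F ∧ p y}.ncard = countUpTo b n := by
  have h : {y | y ∈ F ∧ p y} = dec '' (↑((Finset.range n).filter fun i => b i = true) : Set ℕ) := by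
    ext y
    simp only [Set.mem_ofPred_eq, Set.mem_image, Finset.coe_filter, Finset.mem_range]
    rw [hF]
    constructor
    · rintro ⟨⟨i, hi, rfl⟩, hp⟩
      exact ⟨i, ⟨hi, (hb i hi).mp hp⟩, rfl⟩
    · rintro ⟨i, ⟨hi, hbi⟩, rfl⟩
      exact ⟨⟨i, hi, rfl⟩, (hb i hi).mpr hbi⟩
  rw [h, Set.InjOn.ncard_image, Set.ncard_coe_finset, countUpTo_eq]
  intro a ha c hc hac
  simp only [Finset.coe_filter, Finset.mem_range, Set.mem_ofPred_eq] at ha hc
  exact hinj ha.1 hc.1 hac

end Cfsg.Agent.Lib.M24Data.Universe
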